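import Groth.Agent.PicFinite.Ideals
import Groth.Agent.InvGen.NormalDvd

/-!
# Finite generation of the Picard group of a normal domain with factorial principal open
-/

set_option autoImplicit false
set_option linter.style.haveILetI false
set_option linter.unusedSectionVars false
set_option maxHeartbeats 1000000

universe u

noncomputable section

namespace Groth.Agent.PicFinite

variable {A : Type u} [CommRing A] [IsDomain A] [IsNoetherianRing A] [IsIntegrallyClosed A]

theorem isPrincipalIdealRing_atPrime (p : Ideal A) [p.IsPrime] (hp : p.height ≤ 1) :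
    IsPrincipalIdealRing (Localization.AtPrime p) := by
  haveI : IsNoetherianRing (Localization.AtPrime p) := IsLocalization.isNoetherianRing p.primeCompl _ inferInstance
  haveI : IsDomain (Localization.AtPrime p) := IsLocalization.isDomain_localization (Ideal.primeCompl_le_nonZeroDivisors p)
  haveI : IsIntegrallyClosed (Localization.AtPrime p) :=
    isIntegrallyClosed_of_isLocalization _ p.primeCompl (Ideal.primeCompl_le_nonZeroDivisors p)
  have hd : (IsLocalRing.maximalIdeal (Localization.AtPrime p)).height ≤ 1 := by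
    rw [← WithBot.coe_le_coe, IsLocalRing.maximalIdeal_height_eq_ringKrullDim,
      IsLocalization.AtPrime.ringKrullDim_eq_height p (Localization.AtPrime p), WithBot.coe_le_coe]
    exact hp
  haveI : Ring.DimensionLEOne (Localization.AtPrime p) := ⟨fun {Q} hQ hQp => by
    haveI := hQp
    rcases eq_or_lt_of_le (IsLocalRing.le_maximalIdeal hQp.ne_top) with e | e
    · exact e ▸ IsLocalRing.maximalIdeal.isMaximal _
    exfalso
    have h0 : Q.height = 0 := Order.lt_one_iff.1 ((Ideal.height_strict_mono_of_isPrime e).trans_le hd)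
    rw [Ideal.height_eq_zero_iff, IsDomain.minimalPrimes_eq_singleton_bot] at h0
    exact hQ h0⟩
  haveI : IsDedekindRing (Localization.AtPrime p) := { }
  haveI : IsDedekindDomain (Localization.AtPrime p) := { }
  infer_instance

theorem exists_inverse {f : A} (hsub : Subsingleton (CommRing.Pic (Localization.Away f))) (hf : f ≠ 0)
    (M : CommRing.Pic A) : ∃ (J : Ideal A) (hJ : InvI J), (∃ N : ℕ, f ^ N ∈ J) ∧ M * cls J hJ = 1 := by
  obtain ⟨I, hI, rfl⟩ := exists_cls M
  let S := Localization.Away f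
  have hM : Submonoid.powers f ≤ nonZeroDivisors A := powers_le_nonZeroDivisors_of_noZeroDivisors hf
  haveI : IsDomain S := IsLocalization.isDomain_localization hM
  have hinj : Function.Injective (algebraMap A S) := IsLocalization.injective S hM
  obtain ⟨a, b, ha, hb, hab⟩ := exists_of_cls_eq (hI.map (algebraMap A S) hinj) (invI_span_singleton one_ne_zero)
    (hsub.elim _ _)
  rw [Ideal.span_singleton_one, Ideal.mul_top] at hab
  -- a generator in the ideal
  obtain ⟨c, hc⟩ : ∃ c, I.map (algebraMap A S) = Ideal.span {c} := by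
    have hbm : b ∈ Ideal.span {a} * I.map (algebraMap A S) := hab ▸ Ideal.mem_span_singleton_self b
    obtain ⟨c, -, hbc⟩ := Ideal.mem_span_singleton_mul.1 hbm
    refine ⟨c, (invI_span_singleton ha).cancel (hab.trans ?_)⟩
    rw [Ideal.span_singleton_mul_span_singleton, hbc]
  have hcI : c ∈ I.map (algebraMap A S) := hc ▸ Ideal.mem_span_singleton_self c
  obtain ⟨⟨x, s⟩, hxs⟩ := (IsLocalization.mem_map_algebraMap_iff (Submonoid.powers f) S).1 hcI
  have hxI : (x : A) ∈ I := x.2
  have hsu : IsUnit (algebraMap A S s) := IsLocalization.map_units S s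
  have hgen : I.map (algebraMap A S) = Ideal.span {algebraMap A S x} := by
    rw [hc, ← hxs]
    exact (Ideal.span_singleton_mul_right_unit hsu c).symm
  have hx : (x : A) ≠ 0 := fun e => (hI.map (algebraMap A S) hinj).ne_bot (by
    rw [hgen, e, map_zero, Ideal.span_singleton_eq_bot])
  -- a uniform power of `f`
  obtain ⟨N, hN⟩ : ∃ N, ∀ i ∈ I, f ^ N * i ∈ Ideal.span {(x : A)} := by
    obtain ⟨T, hT⟩ := IsNoetherian.noetherian I
    have h1 : ∀ i ∈ I, ∃ N, f ^ N * i ∈ Ideal.span {(x : A)} := by
      intro i hi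
      have h2 : algebraMap A S i ∈ (Ideal.span {(x : A)}).map (algebraMap A S) := by
        rw [Ideal.map_span, Set.image_singleton, ← hgen]
        exact Ideal.mem_map_of_mem _ hi
      obtain ⟨m, hm, hmi⟩ := (IsLocalization.algebraMap_mem_map_algebraMap_iff (Submonoid.powers f) S _ i).1 h2
      obtain ⟨N, rfl⟩ := hm
      exact ⟨N, hmi⟩
    choose! N hN using h1
    refine ⟨T.sup N, fun i hi => ?_⟩
    rw [← hT] at hi
    induction hi using Submodule.span_induction with
    | mem i hi =>
      obtain ⟨d, hd⟩ := pow_dvd_pow f (Finset.le_sup hi : N i ≤ T.sup N)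
      rw [hd, mul_comm (f ^ N i), mul_assoc]
      exact Ideal.mul_mem_left _ _ (hN i (hT ▸ Submodule.subset_span hi))
    | zero => simp
    | add p q _ _ hp hq => rw [mul_add]; exact add_mem hp hq
    | smul r p _ hp => rw [smul_eq_mul, mul_left_comm]; exact Ideal.mul_mem_left _ _ hp
  obtain ⟨K, a', ha', hK⟩ := id hI
  let J : Ideal A := (Ideal.span {(x : A)} * K).colon ({a'} : Set A)
  have hJmem : ∀ y, y ∈ J ↔ y * a' ∈ Ideal.span {(x : A)} * K := fun y => Submodule.mem_colon_singleton
  have hle : Ideal.span {(x : A)} * K ≤ Ideal.span {a'} := hK ▸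
    Ideal.mul_mono_left ((Ideal.span_singleton_le_iff_mem _).2 hxI)
  have hJK : Ideal.span {a'} * J = Ideal.span {(x : A)} * K := by
    refine le_antisymm (Ideal.span_singleton_mul_le_iff.2 fun y hy => by
      rw [mul_comm a' y]; exact (hJmem y).1 hy) fun z hz => ?_
    obtain ⟨y, rfl⟩ := Ideal.mem_span_singleton'.1 (hle hz)
    rw [mul_comm y a']
    exact Ideal.mul_mem_mul (Ideal.mem_span_singleton_self _) ((hJmem y).2 hz)
  have hIJ : I * J = Ideal.span {(x : A)} := by
    refine (invI_span_singleton ha').cancel ?_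
    rw [mul_left_comm, hJK, mul_left_comm, hK, mul_comm]
  have hJ : InvI J := ⟨I, x, hx, by rw [mul_comm]; exact hIJ⟩
  refine ⟨J, hJ, ⟨N, (hJmem _).2 ?_⟩, ?_⟩
  · have h1 : Ideal.span {f ^ N} * (I * K) ≤ Ideal.span {(x : A)} * K := by
      rw [← mul_assoc]
      exact Ideal.mul_mono_left (Ideal.span_singleton_mul_le_iff.2 hN)
    exact h1 (Ideal.mul_mem_mul (Ideal.mem_span_singleton_self _) (hK ▸ Ideal.mem_span_singleton_self a'))
  · rw [← cls_mul hI hJ, cls_congr (hI.mul hJ) (invI_span_singleton hx) hIJ, cls_span_singleton hx]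

/-- The primes over `f`. -/
abbrev Pr (f : A) : Type u := (Ideal.span {f}).minimalPrimes

instance (f : A) : Finite (Pr f) := (Ideal.finite_minimalPrimes_of_isNoetherianRing A _).to_subtype

instance isPrime_Pr {f : A} (p : Pr f) : (p.1 : Ideal A).IsPrime := p.2.1.1

theorem height_Pr {f : A} (p : Pr f) : p.1.height ≤ 1 :=
  Ideal.height_le_one_of_isPrincipal_of_mem_minimalPrimes (Ideal.span {f}) p.1 p.2

theorem exists_mult {f : A} (hf : f ≠ 0) {J : Ideal A} (hJ : InvI J) (p : Pr f) : ∃! e : ℕ,
    J.map (algebraMap A (Localization.AtPrime p.1)) = IsLocalRing.maximalIdeal (Localization.AtPrime p.1) ^ e := by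
  haveI := isPrincipalIdealRing_atPrime p.1 (height_Pr p)
  have hne : IsLocalRing.maximalIdeal (Localization.AtPrime p.1) ≠ ⊥ := by
    intro e
    have hfm : algebraMap A (Localization.AtPrime p.1) f ∈ IsLocalRing.maximalIdeal (Localization.AtPrime p.1) := by
      rw [← Localization.AtPrime.map_eq_maximalIdeal]
      exact Ideal.mem_map_of_mem _ (p.2.1.2 (Ideal.mem_span_singleton_self f))
    rw [e, Ideal.mem_bot] at hfm
    exact hf (IsLocalization.injective (Localization.AtPrime p.1) p.1.primeCompl_le_nonZeroDivisors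
      (hfm.trans (map_zero _).symm))
  haveI : IsDiscreteValuationRing (Localization.AtPrime p.1) :=
    { not_a_field' := hne }
  obtain ⟨π, hπ⟩ := IsDiscreteValuationRing.exists_irreducible (Localization.AtPrime p.1)
  obtain ⟨e, he⟩ := IsDiscreteValuationRing.ideal_eq_span_pow_irreducible
    (hJ.map (algebraMap A (Localization.AtPrime p.1)) (IsLocalization.injective _
      p.1.primeCompl_le_nonZeroDivisors)).ne_bot hπ
  rw [← Ideal.span_singleton_pow, ← hπ.maximalIdeal_eq] at he
  refine ⟨e, he, fun e' he' => ?_⟩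
  exact (Ideal.pow_right_strictAnti _ hne (IsLocalRing.maximalIdeal.isMaximal _).ne_top).injective (he'.symm.trans he)

theorem le_of_map_le {f : A} (hf : f ≠ 0) {J J' : Ideal A} (hJ' : InvI J') {N : ℕ} (hN : f ^ N ∈ J')
    (h : ∀ p : Pr f, J.map (algebraMap A (Localization.AtPrime p.1)) ≤
      J'.map (algebraMap A (Localization.AtPrime p.1))) : J ≤ J' := by
  intro x hx
  obtain ⟨K, a, ha, hK⟩ := id hJ'
  suffices hxz : ∀ z ∈ K, a ∣ x * z by
    have h1 : Ideal.span {x} * K ≤ Ideal.span {a} :=
      Ideal.span_singleton_mul_le_iff.2 fun z hz => Ideal.mem_span_singleton.2 (hxz z hz)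
    have h2 : Ideal.span {a} * Ideal.span {x} ≤ Ideal.span {a} * J' := by
      rw [← hK, mul_assoc, mul_comm K, hK, mul_comm _ J']
      exact Ideal.mul_mono_right h1
    exact (Ideal.span_singleton_le_iff_mem _).1 ((Ideal.span_singleton_mul_right_mono ha).1 h2)
  intro z hz
  refine InvGen.dvd_of_forall_height_one ha fun q hq hq1 => ?_
  by_cases hfq : f ∈ q
  · obtain ⟨q', hq', hq'q⟩ := Ideal.exists_minimalPrimes_le ((Ideal.span_singleton_le_iff_mem _).2 hfq)
    obtain rfl : q' = q := by
      by_contra hne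
      haveI := hq'.1.1
      haveI := hq
      have hlt := Ideal.height_strict_mono_of_isPrime (lt_of_le_of_ne hq'q hne)
      rw [hq1, Order.lt_one_iff, Ideal.height_eq_zero_iff, IsDomain.minimalPrimes_eq_singleton_bot] at hlt
      have hf0 : f ∈ (⊥ : Ideal A) := hlt ▸ hq'.1.2 (Ideal.mem_span_singleton_self f)
      exact hf hf0
    have h1 := h ⟨q', hq'⟩ (Ideal.mem_map_of_mem _ hx)
    obtain ⟨s, hs, hsx⟩ :=
      (IsLocalization.algebraMap_mem_map_algebraMap_iff q'.primeCompl (Localization.AtPrime q') J' x).1 h1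
    refine ⟨s, hs, Ideal.mem_span_singleton.1 ?_⟩
    rw [← hK, ← mul_assoc]
    exact Ideal.mul_mem_mul hsx hz
  · refine ⟨f ^ N, fun e => hfq (hq.mem_of_pow_mem N e), Ideal.mem_span_singleton.1 ?_⟩
    rw [← hK, mul_left_comm, ← mul_assoc, mul_comm x, mul_assoc, mul_left_comm]
    exact Ideal.mul_mem_left _ _ (Ideal.mul_mem_mul hN hz)

theorem fg_pic {f : A} (hf : f ≠ 0) (hsub : Subsingleton (CommRing.Pic (Localization.Away f))) :
    Group.FG (CommRing.Pic A) := by
  classical
  haveI : Fintype (Pr f) := Fintype.ofFinite _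
  let S : Submonoid (Ideal A) :=
    { carrier := {J | InvI J ∧ ∃ N : ℕ, f ^ N ∈ J}
      one_mem' := ⟨Ideal.one_eq_top (R := A) ▸ invI_top, 0, by simp⟩
      mul_mem' := fun {J J'} hJ hJ' => by
        obtain ⟨N, hN⟩ := hJ.2
        obtain ⟨N', hN'⟩ := hJ'.2
        exact ⟨hJ.1.mul hJ'.1, N + N', pow_add f N N' ▸ Ideal.mul_mem_mul hN hN'⟩ }
  have hex : ∀ (J : S) (p : Pr f), ∃! e : ℕ, (J.1).map (algebraMap A (Localization.AtPrime p.1)) =
      IsLocalRing.maximalIdeal (Localization.AtPrime p.1) ^ e := fun J p => exists_mult hf J.2.1 p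
  let e : Additive S →+ (Pr f → ℤ) :=
    AddMonoidHom.mk' (fun J p => ((hex (Additive.toMul J) p).choose : ℤ)) fun J J' => funext fun p => by
      have h := (hex (Additive.toMul J) p).choose_spec.1
      have h' := (hex (Additive.toMul J') p).choose_spec.1
      rw [Pi.add_apply, ← Nat.cast_add, Nat.cast_inj]
      refine ((hex (Additive.toMul (J + J')) p).choose_spec.2 _ ?_).symm
      show ((Additive.toMul J).1 * (Additive.toMul J').1).map (algebraMap A (Localization.AtPrime p.1)) = _
      rw [pow_add, Ideal.map_mul]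
      exact congrArg₂ (· * ·) h h'
  let c : S →* CommRing.Pic A :=
    { toFun := fun J => cls J.1 J.2.1
      map_one' := (cls_congr _ _ (by rw [Submonoid.coe_one, Ideal.one_eq_top, Ideal.span_singleton_one])).trans
        (cls_span_singleton (one_ne_zero (α := A)))
      map_mul' := fun J J' => cls_mul J.2.1 J'.2.1 }
  have hdet : ∀ J J' : S, e (Additive.ofMul J) = e (Additive.ofMul J') → J = J' := by
    intro J J' h
    have hh : ∀ p : Pr f, J.1.map (algebraMap A (Localization.AtPrime p.1)) =
        J'.1.map (algebraMap A (Localization.AtPrime p.1)) := fun p => by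
      rw [(hex J p).choose_spec.1, (hex J' p).choose_spec.1]
      exact congrArg _ (Nat.cast_inj.1 (congrFun h p))
    obtain ⟨N, hN⟩ := J.2.2
    obtain ⟨N', hN'⟩ := J'.2.2
    exact Subtype.ext (le_antisymm (le_of_map_le hf J'.2.1 hN' fun p => (hh p).le)
      (le_of_map_le hf J.2.1 hN fun p => (hh p).ge))
  obtain ⟨T, hTsub, hT⟩ := (Submodule.fg_span_iff_fg_span_finset_subset _).1
    (IsNoetherian.noetherian (Submodule.span ℤ (Set.range e)))
  choose! g hg using fun t (ht : t ∈ T) => hTsub ht
  refine Group.fg_iff.2 ⟨(fun t => c (Additive.toMul (g t))) '' (T : Set (Pr f → ℤ)), ?_,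
    T.finite_toSet.image _⟩
  rw [eq_top_iff]
  intro M _
  obtain ⟨J, hJ, hJf, hMJ⟩ := exists_inverse hsub hf M
  suffices hJc : c ⟨J, hJ, hJf⟩ ∈ Subgroup.closure ((fun t => c (Additive.toMul (g t))) '' (T : Set (Pr f → ℤ))) by
    rw [eq_inv_of_mul_eq_one_left hMJ]
    exact inv_mem hJc
  have hmem : e (Additive.ofMul (⟨J, hJ, hJf⟩ : S)) ∈ Submodule.span ℤ (T : Set (Pr f → ℤ)) :=
    hT ▸ Submodule.subset_span ⟨_, rfl⟩
  -- differences of two products of generators
  have key : ∀ v ∈ Submodule.span ℤ (T : Set (Pr f → ℤ)), ∃ P Q : S,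
      c P ∈ Subgroup.closure ((fun t => c (Additive.toMul (g t))) '' (T : Set (Pr f → ℤ))) ∧
      c Q ∈ Subgroup.closure ((fun t => c (Additive.toMul (g t))) '' (T : Set (Pr f → ℤ))) ∧
      v + e (Additive.ofMul Q) = e (Additive.ofMul P) := by
    intro v hv
    rw [← Submodule.mem_toAddSubgroup, Submodule.span_int_eq_addSubgroupClosure] at hv
    induction hv using AddSubgroup.closure_induction with
    | mem t ht =>
      refine ⟨Additive.toMul (g t), 1, Subgroup.subset_closure ⟨t, ht, rfl⟩, by rw [map_one]; exact one_mem _, ?_⟩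
      rw [ofMul_one, map_zero, add_zero, ofMul_toMul, hg t ht]
    | zero => exact ⟨1, 1, by rw [map_one]; exact one_mem _, by rw [map_one]; exact one_mem _, zero_add _⟩
    | add x y _ _ hx hy =>
      obtain ⟨P, Q, hP, hQ, hPQ⟩ := hx
      obtain ⟨P', Q', hP', hQ', hPQ'⟩ := hy
      refine ⟨P * P', Q * Q', by rw [map_mul]; exact mul_mem hP hP', by rw [map_mul]; exact mul_mem hQ hQ', ?_⟩
      rw [ofMul_mul, ofMul_mul, map_add, map_add, ← hPQ, ← hPQ']
      abel
    | neg x _ hx =>
      obtain ⟨P, Q, hP, hQ, hPQ⟩ := hx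
      refine ⟨Q, P, hQ, hP, ?_⟩
      rw [← hPQ]
      abel
  obtain ⟨P, Q, hP, hQ, hPQ⟩ := key _ hmem
  rw [← map_add, ← ofMul_mul] at hPQ
  have hJP := congrArg c (hdet _ _ hPQ)
  rw [map_mul] at hJP
  rw [eq_mul_inv_of_mul_eq hJP]
  exact mul_mem hP (inv_mem hQ)

end Groth.Agent.PicFinite
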