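import Mathlib

/-!
# Invertible ideals of a domain and their classes
-/

set_option autoImplicit false
set_option linter.style.haveILetI false

universe u

open TensorProduct

noncomputable section

namespace Groth.Agent.PicFinite

variable {S : Type u} [CommRing S] [IsDomain S]

section Module

variable {M : Type u} [AddCommGroup M] [Module S M] [Module.Invertible S M]


theorem smul_swap (f : M →ₗ[S] S) (x y : M) : f x • y = f y • x := by
  simpa using congrArg (fun z => TensorProduct.lid S M (f.rTensor M z))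
    (Module.Invertible.tmul_comm (R := S) (m₁ := x) (m₂ := y))

omit [IsDomain S] in
theorem exists_dual_notMem {P : Ideal S} (hP : P ≠ ⊤) : ∃ (f : M →ₗ[S] S) (x : M), f x ∉ P := by
  by_contra! h
  refine hP ((Ideal.eq_top_iff_one P).2 ?_)
  have key : ∀ z : Module.Dual S M ⊗[S] M, Module.Invertible.linearEquiv S M z ∈ P := by
    intro z
    induction z using TensorProduct.induction_on with
    | zero => simp
    | tmul f x => simpa [Module.Invertible.linearEquiv] using h f x
    | add z w hz hw => rw [map_add]; exact add_mem hz hw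
  simpa using key ((Module.Invertible.linearEquiv S M).symm 1)

theorem exists_ne_zero (S : Type u) [CommRing S] [IsDomain S] (M : Type u) [AddCommGroup M] [Module S M]
    [Module.Invertible S M] : ∃ x : M, x ≠ 0 := by
  obtain ⟨f, x, hx⟩ := exists_dual_notMem (M := M) (P := (⊥ : Ideal S)) bot_ne_top
  exact ⟨x, fun e => hx (by simp [e])⟩

end Module

/-- An ideal which has a multiple that is principal and nonzero. -/
def InvI (I : Ideal S) : Prop := ∃ (J : Ideal S) (a : S), a ≠ 0 ∧ I * J = Ideal.span {a}

theorem InvI.ne_bot {I : Ideal S} (h : InvI I) : I ≠ ⊥ := by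
  rintro rfl
  obtain ⟨J, a, ha, e⟩ := h
  rw [Ideal.bot_mul] at e
  exact ha (by simpa using e.symm)

theorem InvI.mul {I J : Ideal S} (h : InvI I) (h' : InvI J) : InvI (I * J) := by
  obtain ⟨I', a, ha, e⟩ := h
  obtain ⟨J', b, hb, e'⟩ := h'
  exact ⟨I' * J', a * b, mul_ne_zero ha hb, by
    rw [mul_mul_mul_comm, e, e', Ideal.span_singleton_mul_span_singleton]⟩

theorem invI_top : InvI (⊤ : Ideal S) :=
  ⟨⊤, 1, one_ne_zero, by rw [Ideal.span_singleton_one, Ideal.top_mul]⟩

theorem InvI.pow {I : Ideal S} (h : InvI I) (n : ℕ) : InvI (I ^ n) := by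
  induction n with
  | zero => rw [pow_zero, Ideal.one_eq_top]; exact invI_top
  | succ n ih => rw [pow_succ]; exact ih.mul h

theorem invI_span_singleton {a : S} (ha : a ≠ 0) : InvI (Ideal.span {a}) :=
  ⟨⊤, a, ha, Ideal.mul_top _⟩

theorem InvI.map {R : Type u} [CommRing R] [IsDomain R] {I : Ideal R} (h : InvI I) (φ : R →+* S)
    (hφ : Function.Injective φ) : InvI (I.map φ) := by
  obtain ⟨J, a, ha, e⟩ := h
  exact ⟨J.map φ, φ a, (map_ne_zero_iff φ hφ).2 ha, by
    rw [← Ideal.map_mul, e, Ideal.map_span, Set.image_singleton]⟩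

theorem InvI.cancel {I A B : Ideal S} (h : InvI I) (e : I * A = I * B) : A = B := by
  obtain ⟨J, a, ha, e'⟩ := h
  have h2 : Ideal.span {a} * A = Ideal.span {a} * B := by
    rw [← e', mul_right_comm, mul_right_comm I J B, e]
  exact Ideal.span_singleton_mul_right_injective ha h2

theorem invI_of_invertible (I : Ideal S) [Module.Invertible S I] : InvI I := by
  obtain ⟨a, ha⟩ := exists_ne_zero S I
  let J : Ideal S := LinearMap.range (LinearMap.applyₗ a : Module.Dual S I →ₗ[S] S)
  refine ⟨J, (a : S), fun e => ha (Subtype.ext e), le_antisymm ?_ ?_⟩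
  · rw [Ideal.mul_le]
    rintro x hx _ ⟨f, rfl⟩
    rw [Ideal.mem_span_singleton]
    refine ⟨f ⟨x, hx⟩, ?_⟩
    have h2 := congrArg Subtype.val (smul_swap f a ⟨x, hx⟩)
    simp only [SetLike.val_smul, smul_eq_mul] at h2
    simp only [LinearMap.applyₗ_apply_apply]
    linear_combination h2
  · rw [Ideal.span_singleton_le_iff_mem]
    have key : ∀ z : Module.Dual S I ⊗[S] I, (a : S) * Module.Invertible.linearEquiv S I z ∈ I * J := by
      intro z
      induction z using TensorProduct.induction_on with
      | zero => simp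
      | tmul f x =>
        have h2 := congrArg Subtype.val (smul_swap f a x)
        simp only [SetLike.val_smul, smul_eq_mul] at h2
        simp only [Module.Invertible.linearEquiv, LinearEquiv.ofBijective_apply, contractLeft_apply]
        rw [show (a : S) * f x = (x : S) * f a by linear_combination -h2]
        exact Ideal.mul_mem_mul x.2 ⟨f, rfl⟩
      | add z w hz hw => rw [map_add, mul_add]; exact add_mem hz hw
    simpa using key ((Module.Invertible.linearEquiv S I).symm 1)

theorem InvI.invertible {I : Ideal S} (h : InvI I) : Module.Invertible S I := by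
  obtain ⟨J, a, ha, e⟩ := h
  let K := FractionRing S
  let ι : S →ₐ[S] K := Algebra.ofId S K
  have hι : Function.Injective ι := IsFractionRing.injective S K
  have ha' : ι a ≠ 0 := (map_ne_zero_iff ι hι).2 ha
  let U : (Submodule S K)ˣ := Units.mkOfMulEqOne (Submodule.map ι.toLinearMap I)
    (Submodule.span S {(ι a)⁻¹} * Submodule.map ι.toLinearMap J) (by
      rw [mul_left_comm, ← Submodule.map_mul, e, Ideal.submodule_span_eq.symm, Submodule.map_span,
        Set.image_singleton, Submodule.span_mul_span, Set.singleton_mul_singleton, AlgHom.toLinearMap_apply,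
        inv_mul_cancel₀ ha', Submodule.one_eq_span])
  haveI : Module.Invertible S ↥(Submodule.map ι.toLinearMap I) := inferInstanceAs (Module.Invertible S U)
  exact Module.Invertible.congr (Submodule.equivMapOfInjective ι.toLinearMap hι I).symm

/-- The class of an invertible ideal. -/
def cls (I : Ideal S) (h : InvI I) : CommRing.Pic S :=
  haveI := h.invertible
  CommRing.Pic.mk S I

theorem exists_cls (M : CommRing.Pic S) : ∃ (I : Ideal S) (h : InvI I), cls I h = M := by
  obtain ⟨I, ⟨e⟩⟩ := Module.Invertible.exists_linearEquiv_ideal S M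
  haveI := Module.Invertible.congr e
  exact ⟨I, invI_of_invertible I, CommRing.Pic.mk_eq_iff.2 ⟨e.symm⟩⟩

theorem cls_congr {I J : Ideal S} (h : InvI I) (h' : InvI J) (e : I = J) : cls I h = cls J h' := by
  subst e; rfl

theorem cls_mul {I J : Ideal S} (h : InvI I) (h' : InvI J) : cls (I * J) (h.mul h') = cls I h * cls J h' := by
  haveI := h.invertible
  haveI := h'.invertible
  haveI : Module.Invertible S ↥(I * J) := (h.mul h').invertible
  rw [cls, cls, cls, ← CommRing.Pic.mk_tensor, CommRing.Pic.mk_eq_mk_iff]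
  exact ⟨(LinearEquiv.ofBijective (Submodule.mulMap' I J)
    (Module.Invertible.bijective_of_surjective (Submodule.mulMap'_surjective I J))).symm⟩

theorem cls_span_singleton {a : S} (ha : a ≠ 0) : cls (Ideal.span {a}) (invI_span_singleton ha) = 1 := by
  haveI := (invI_span_singleton ha).invertible
  exact CommRing.Pic.mk_eq_one_iff.2 ⟨(LinearEquiv.toSpanNonzeroSingleton S S a ha).symm⟩

theorem cls_pow {I : Ideal S} (h : InvI I) (n : ℕ) : cls (I ^ n) (h.pow n) = cls I h ^ n := by
  induction n with
  | zero =>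
    rw [pow_zero (cls I h)]
    exact (cls_congr _ _ (by rw [pow_zero, Ideal.span_singleton_one, Ideal.one_eq_top])).trans
      (cls_span_singleton (one_ne_zero (α := S)))
  | succ n ih =>
    rw [pow_succ (cls I h), ← ih, ← cls_mul]
    exact cls_congr _ _ (pow_succ I n)

theorem exists_of_cls_eq {I J : Ideal S} (h : InvI I) (h' : InvI J) (e : cls I h = cls J h') :
    ∃ a b : S, a ≠ 0 ∧ b ≠ 0 ∧ Ideal.span {a} * I = Ideal.span {b} * J := by
  haveI := h.invertible
  haveI := h'.invertible
  obtain ⟨φ⟩ := CommRing.Pic.mk_eq_mk_iff.1 e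
  obtain ⟨x₀, hx₀⟩ := exists_ne_zero S I
  have key : ∀ x : I, ((φ x₀ : J) : S) * x = x₀ * (φ x : J) := by
    intro x
    have h2 := congrArg Subtype.val (smul_swap (J.subtype ∘ₗ φ.toLinearMap) x₀ x)
    simp only [SetLike.val_smul, smul_eq_mul, LinearMap.comp_apply, LinearEquiv.coe_coe,
      Submodule.subtype_apply] at h2
    linear_combination h2
  refine ⟨(φ x₀ : J), x₀, fun e => hx₀ (φ.injective ((Subtype.ext e : φ x₀ = 0).trans φ.map_zero.symm)),
    fun e => hx₀ (Subtype.ext e), ?_⟩
  ext z
  simp only [Ideal.mem_span_singleton_mul]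
  constructor
  · rintro ⟨x, hx, rfl⟩
    exact ⟨(φ ⟨x, hx⟩ : J), (φ ⟨x, hx⟩).2, (key ⟨x, hx⟩).symm⟩
  · rintro ⟨y, hy, rfl⟩
    refine ⟨(φ.symm ⟨y, hy⟩ : I), (φ.symm ⟨y, hy⟩).2, ?_⟩
    rw [key, φ.apply_symm_apply]

theorem cls_map {R : Type u} [CommRing R] [IsDomain R] {I : Ideal R} (h : InvI I) (φ : R →+* S)
    (hφ : Function.Injective φ) : CommRing.Pic.mapRingHom φ (cls I h) = cls (I.map φ) (h.map φ hφ) := by
  letI := φ.toAlgebra
  haveI := h.invertible
  haveI := (h.map φ hφ).invertible
  let g : I →ₗ[R] ↥(I.map φ) :=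
    { toFun := fun x => ⟨φ x, Ideal.mem_map_of_mem φ x.2⟩
      map_add' := fun x y => Subtype.ext (map_add φ _ _)
      map_smul' := fun r x => Subtype.ext ((map_mul φ r _).trans (Algebra.smul_def r (φ x)).symm) }
  have hsurj : Function.Surjective (g.liftBaseChange S) := by
    rintro ⟨z, hz⟩
    rw [← LinearMap.mem_range]
    change z ∈ Submodule.span S (φ '' I) at hz
    induction hz using Submodule.span_induction with
    | mem z hz' =>
      obtain ⟨x, hx, rfl⟩ := hz'
      exact ⟨1 ⊗ₜ ⟨x, hx⟩, by rw [LinearMap.liftBaseChange_tmul, one_smul]; rfl⟩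
    | zero => exact zero_mem _
    | add x y hx hy hx' hy' => exact add_mem (hx' : _) hy'
    | smul c x hx hx' => exact Submodule.smul_mem _ c (hx' : _)
  change CommRing.Pic.mapAlgebra R S (CommRing.Pic.mk R I) = CommRing.Pic.mk S _
  rw [CommRing.Pic.mapAlgebra_apply, CommRing.Pic.mk_eq_mk_iff]
  exact ⟨(TensorProduct.AlgebraTensorModule.congr (LinearEquiv.refl S S) (CommRing.Pic.mk.linearEquiv R I)) ≪≫ₗ
    LinearEquiv.ofBijective (g.liftBaseChange S) (Module.Invertible.bijective_of_surjective hsurj)⟩

end Groth.Agent.PicFinite
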