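import Mathlib

/-!
# Slices and translations at points of a Hopf algebra
-/

set_option autoImplicit false

universe u

open TensorProduct

noncomputable section

namespace Groth.Agent.PicFinite

variable (k : Type u) [Field k] {A : Type u} [CommRing A]

section Algebra

variable [Algebra k A] {k} {B : Type u} [CommRing B] [Algebra k B]

/-- Evaluation of the first factor at a point. -/
def slice (g : A →ₐ[k] k) : A ⊗[k] B →ₐ[k] B :=
  (Algebra.TensorProduct.lid k B).toAlgHom.comp (Algebra.TensorProduct.map g (AlgHom.id k B))

@[simp] theorem slice_tmul (g : A →ₐ[k] k) (a : A) (b : B) : slice g (a ⊗ₜ b) = g a • b := by simp [slice]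

theorem comp_slice {C : Type u} [CommRing C] [Algebra k C] (g : A →ₐ[k] k) (φ : B →ₐ[k] C) :
    φ.comp (slice g) = (slice g).comp (Algebra.TensorProduct.map (AlgHom.id k A) φ) := by
  apply Algebra.TensorProduct.ext
  · ext a; simp
  · ext b; simp

/-- Evaluation at two points. -/
def pr (g h : A →ₐ[k] k) : A ⊗[k] A →ₐ[k] k := h.comp (slice g)

end Algebra

variable [HopfAlgebra k A]

/-- The translation by a point. -/
def tr (g : A →ₐ[k] k) : A →ₐ[k] A := (slice g).comp (Bialgebra.comulAlgHom k A)

/-- The product of two points. -/
def pmul (g h : A →ₐ[k] k) : A →ₐ[k] k := (pr g h).comp (Bialgebra.comulAlgHom k A)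

theorem tr_counit : tr k (Bialgebra.counitAlgHom k A) = AlgHom.id k A := by
  ext a
  have h : ∀ z : A ⊗[k] A, slice (Bialgebra.counitAlgHom k A) z =
      TensorProduct.lid k A ((Coalgebra.counit (R := k) (A := A)).rTensor A z) := fun z => by
    induction z using TensorProduct.induction_on with
    | zero => simp
    | tmul x y => simp
    | add z w hz hw => simp [hz, hw]
  simp [tr, h]

theorem tr_tr (g h : A →ₐ[k] k) : (tr k h).comp (tr k g) = tr k (pmul k g h) := by
  ext a
  let Δ := Bialgebra.comulAlgHom k A
  have h1 : ∀ z : A ⊗[k] A, tr k h (slice g z) =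
      slice (pr g h) ((TensorProduct.assoc k A A A).symm ((Coalgebra.comul (R := k) (A := A)).lTensor A z)) := by
    intro z
    induction z using TensorProduct.induction_on with
    | zero => simp
    | tmul x y =>
      rw [slice_tmul, map_smul, LinearMap.lTensor_tmul]
      change g x • slice h (Coalgebra.comul y) = _
      generalize Coalgebra.comul (R := k) y = w
      induction w using TensorProduct.induction_on with
      | zero => simp
      | tmul p q => simp [pr, smul_smul]
      | add w w' hw hw' => simp only [map_add, TensorProduct.tmul_add, smul_add, hw, hw']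
    | add z w hz hw => simp only [map_add, hz, hw]
  have h2 : ∀ z : A ⊗[k] A, slice (pr g h) ((Coalgebra.comul (R := k) (A := A)).rTensor A z) =
      slice (pmul k g h) z := by
    intro z
    induction z using TensorProduct.induction_on with
    | zero => simp
    | tmul x y =>
      rw [LinearMap.rTensor_tmul, slice_tmul, slice_tmul]
      rfl
    | add z w hz hw => simp only [map_add, hz, hw]
  calc tr k h (tr k g a) = _ := h1 _
    _ = slice (pr g h) ((Coalgebra.comul (R := k) (A := A)).rTensor A (Coalgebra.comul a)) :=
      congrArg _ (Coalgebra.coassoc_symm_apply a)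
    _ = _ := h2 _

theorem pmul_antipode (g : A →ₐ[k] k) :
    pmul k g (g.comp (HopfAlgebra.antipodeAlgHom k A)) = Bialgebra.counitAlgHom k A := by
  ext a
  have h : ∀ z : A ⊗[k] A, pr g (g.comp (HopfAlgebra.antipodeAlgHom k A)) z =
      g (LinearMap.mul' k A ((HopfAlgebra.antipode k (A := A)).lTensor A z)) := fun z => by
    induction z using TensorProduct.induction_on with
    | zero => simp
    | tmul x y => simp [pr]
    | add z w hz hw => simp [hz, hw]
  simp [pmul, h, HopfAlgebra.mul_antipode_lTensor_comul_apply]

theorem antipode_pmul (g : A →ₐ[k] k) :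
    pmul k (g.comp (HopfAlgebra.antipodeAlgHom k A)) g = Bialgebra.counitAlgHom k A := by
  ext a
  have h : ∀ z : A ⊗[k] A, pr (g.comp (HopfAlgebra.antipodeAlgHom k A)) g z =
      g (LinearMap.mul' k A ((HopfAlgebra.antipode k (A := A)).rTensor A z)) := fun z => by
    induction z using TensorProduct.induction_on with
    | zero => simp
    | tmul x y => simp [pr]
    | add z w hz hw => simp [hz, hw]
  simp [pmul, h, HopfAlgebra.mul_antipode_rTensor_comul_apply]

theorem tr_bijective (g : A →ₐ[k] k) : Function.Bijective (tr k g) := by
  let g' := g.comp (HopfAlgebra.antipodeAlgHom k A)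
  have h1 : (tr k g').comp (tr k g) = AlgHom.id k A := by rw [tr_tr, pmul_antipode, tr_counit]
  have h2 : (tr k g).comp (tr k g') = AlgHom.id k A := by rw [tr_tr, antipode_pmul, tr_counit]
  exact Function.bijective_iff_has_inverse.2 ⟨tr k g', fun a => AlgHom.congr_fun h1 a, fun a => AlgHom.congr_fun h2 a⟩

theorem comul_injective : Function.Injective (Bialgebra.comulAlgHom k A) := by
  intro a b e
  have h := tr_counit k (A := A)
  calc a = tr k (Bialgebra.counitAlgHom k A) a := (AlgHom.congr_fun h a).symm
    _ = tr k (Bialgebra.counitAlgHom k A) b := congrArg (slice _) e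
    _ = b := AlgHom.congr_fun h b

end Groth.Agent.PicFinite
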