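import Groth.Agent.PicFinite.Ideals
import Groth.Agent.PicFinite.Points
import Groth.Agent.UnitTensor.Basic
import Groth.Agent.DiagIdeal.Pure

/-!
# Primitive invertible ideals of a Hopf algebra have finite order
-/

set_option autoImplicit false
set_option linter.style.haveILetI false
set_option linter.unusedSectionVars false
set_option maxHeartbeats 1000000
set_option synthInstance.maxHeartbeats 400000

universe u

open TensorProduct

noncomputable section

namespace Groth.Agent.PicFinite

theorem exists_unit_of_cross {S : Type u} [CommRing S] [IsDomain S] {M : Type*} (l r : M → S)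
    (hcross : ∀ v w, l v * r w = l w * r v) {Q : Ideal S} (hl : Ideal.span (Set.range l) = Q)
    (hr : Ideal.span (Set.range r) = Q) (hQ : InvI Q) : ∃ u : Sˣ, ∀ v, l v = u * r v := by
  obtain ⟨w₀, hw₀⟩ : ∃ w, r w ≠ 0 := by
    by_contra! h
    refine hQ.ne_bot (hr ▸ Ideal.span_eq_bot.2 ?_)
    rintro _ ⟨w, rfl⟩
    exact h w
  have h1 : Q * Ideal.span {r w₀} = Q * Ideal.span {l w₀} := by
    conv_lhs => rw [← hl]
    conv_rhs => rw [← hr]
    rw [Ideal.span_mul_span', Ideal.span_mul_span']
    congr 1
    ext z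
    simp only [Set.mem_mul, Set.mem_range, Set.mem_singleton_iff]
    constructor
    · rintro ⟨_, ⟨v, rfl⟩, _, rfl, rfl⟩
      exact ⟨_, ⟨v, rfl⟩, _, rfl, by rw [hcross, mul_comm]⟩
    · rintro ⟨_, ⟨v, rfl⟩, _, rfl, rfl⟩
      exact ⟨_, ⟨v, rfl⟩, _, rfl, by rw [hcross, mul_comm]⟩
  obtain ⟨u, hu⟩ := Ideal.span_singleton_eq_span_singleton.1 (hQ.cancel h1)
  refine ⟨u, fun v => mul_right_cancel₀ hw₀ ?_⟩
  rw [hcross, ← hu]
  ring

variable {k : Type u} [Field k] [IsAlgClosed k] {A : Type u} [CommRing A] [HopfAlgebra k A] [IsDomain A]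
  [Algebra.FiniteType k A] {I : Ideal A}

local notation "Δ" => Bialgebra.comulAlgHom k A
local notation "eps" => Bialgebra.counitAlgHom k A

variable (k I)

/-- The inclusion of the ideal. -/
def incl : I →ₗ[k] A := I.subtype.restrictScalars k

/-- The inclusion of the tensor square of the ideal. -/
def incl₂ : I ⊗[k] I →ₗ[k] A ⊗[k] A := TensorProduct.map (incl k I) (incl k I)

/-- The inclusion of the tensor cube of the ideal. -/
def incl₃ : (I ⊗[k] I) ⊗[k] I →ₗ[k] (A ⊗[k] A) ⊗[k] A := TensorProduct.map (incl₂ k I) (incl k I)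

/-- The action of `A` on the ideal. -/
def act : A →ₗ[k] I →ₗ[k] I :=
  LinearMap.mk₂ k (fun a x => a • x) (fun a b x => add_smul a b x) (fun c a x => smul_assoc c a x)
    (fun a x y => smul_add a x y) (fun c a x => smul_comm a c x)

/-- The action of `A ⊗ A` on the tensor square of the ideal. -/
def sm : A ⊗[k] A →ₗ[k] I ⊗[k] I →ₗ[k] I ⊗[k] I := TensorProduct.map₂ (act k I) (act k I)

/-- The action of the triple tensor product. -/
def sm₃ : (A ⊗[k] A) ⊗[k] A →ₗ[k] (I ⊗[k] I) ⊗[k] I →ₗ[k] (I ⊗[k] I) ⊗[k] I :=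
  TensorProduct.map₂ (sm k I) (act k I)

variable {k I}

omit [IsAlgClosed k] in
theorem incl_injective : Function.Injective (incl k I) := fun _ _ e => Subtype.ext e

omit [IsAlgClosed k] in
theorem incl₂_injective : Function.Injective (incl₂ k I) := by
  rw [incl₂, ← LinearMap.lTensor_comp_rTensor]
  exact (Module.Flat.lTensor_preserves_injective_linearMap _ incl_injective).comp
    (Module.Flat.rTensor_preserves_injective_linearMap _ incl_injective)

omit [IsAlgClosed k] in
theorem incl₃_injective : Function.Injective (incl₃ k I) := by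
  rw [incl₃, ← LinearMap.lTensor_comp_rTensor]
  exact (Module.Flat.lTensor_preserves_injective_linearMap _ incl_injective).comp
    (Module.Flat.rTensor_preserves_injective_linearMap _ incl₂_injective)

theorem incl_act (a : A) (x : I) : incl k I (act k I a x) = a * incl k I x := rfl

theorem incl₂_sm (s : A ⊗[k] A) (z : I ⊗[k] I) : incl₂ k I (sm k I s z) = s * incl₂ k I z := by
  induction s using TensorProduct.induction_on with
  | zero => simp
  | tmul a b =>
    induction z using TensorProduct.induction_on with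
    | zero => simp
    | tmul x y => simp [incl₂, sm, incl_act]
    | add z w hz hw => simp only [map_add, mul_add, hz, hw]
  | add s t hs ht => simp only [map_add, LinearMap.add_apply, add_mul, hs, ht]

theorem incl₃_sm (s : (A ⊗[k] A) ⊗[k] A) (z : (I ⊗[k] I) ⊗[k] I) :
    incl₃ k I (sm₃ k I s z) = s * incl₃ k I z := by
  induction s using TensorProduct.induction_on with
  | zero => simp
  | tmul a b =>
    induction z using TensorProduct.induction_on with
    | zero => simp
    | tmul x y => simp [incl₃, sm₃, incl_act, incl₂_sm]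
    | add z w hz hw => simp only [map_add, mul_add, hz, hw]
  | add s t hs ht => simp only [map_add, LinearMap.add_apply, add_mul, hs, ht]

variable (k I) in
/-- A semilinear comultiplication on the ideal with generating image. -/
structure Dat where
  D : I →ₗ[k] I ⊗[k] I
  semi : ∀ (a : A) (x : I), incl₂ k I (D (a • x)) = Δ a * incl₂ k I (D x)
  gen : ∀ z : I ⊗[k] I, incl₂ k I z ∈ Ideal.span (Set.range fun x => incl₂ k I (D x))

theorem Dat.semi' (d : Dat k I) (a : A) (x : I) : d.D (a • x) = sm k I (Δ a) (d.D x) :=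
  incl₂_injective (by rw [d.semi, incl₂_sm])

theorem sm_sm (s t : A ⊗[k] A) (z : I ⊗[k] I) : sm k I s (sm k I t z) = sm k I (s * t) z :=
  incl₂_injective (by simp only [incl₂_sm, mul_assoc])

/-- The span of the translates of the image is everything. -/
theorem Dat.span_eq_top (d : Dat k I) :
    Submodule.span k (Set.range fun p : (A ⊗[k] A) × I => sm k I p.1 (d.D p.2)) = ⊤ := by
  refine eq_top_iff.2 fun z _ => ?_
  set P := Submodule.span k (Set.range fun p : (A ⊗[k] A) × I => sm k I p.1 (d.D p.2)) with hP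
  have key : ∀ y ∈ Ideal.span (Set.range fun x => incl₂ k I (d.D x)), ∀ s : A ⊗[k] A,
      ∃ p ∈ P, incl₂ k I p = s * y := by
    intro y hy
    induction hy using Submodule.span_induction with
    | mem y hy =>
      obtain ⟨x, rfl⟩ := hy
      exact fun s => ⟨sm k I s (d.D x), Submodule.subset_span ⟨(s, x), rfl⟩, incl₂_sm _ _⟩
    | zero => exact fun s => ⟨0, zero_mem _, by simp⟩
    | add a b _ _ ha hb =>
      intro s
      obtain ⟨p, hp, ep⟩ := ha s
      obtain ⟨q, hq, eq⟩ := hb s
      exact ⟨p + q, add_mem hp hq, by rw [map_add, ep, eq, mul_add]⟩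
    | smul c a _ ha =>
      intro s
      obtain ⟨p, hp, ep⟩ := ha (s * c)
      exact ⟨p, hp, by rw [ep, smul_eq_mul, mul_assoc]⟩
  obtain ⟨p, hp, ep⟩ := key _ (d.gen z) 1
  rw [one_mul] at ep
  exact incl₂_injective ep ▸ hp

section Slices

variable [Module.Invertible A I]

variable (I) in
theorem exists_lam (g : A →ₐ[k] k) : ∃ lam : I →ₗ[k] k,
    (∀ (a : A) (x : I), lam (a • x) = g a * lam x) ∧ (∃ x, lam x = 1) ∧
      ∀ mu : I →ₗ[k] k, (∀ (a : A) (x : I), mu (a • x) = g a * mu x) → ∃ c : k, ∀ x, mu x = c * lam x := by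
  obtain ⟨f, x₀, hx₀⟩ := exists_dual_notMem (M := I) (P := RingHom.ker g.toRingHom)
    (RingHom.ker_ne_top _)
  have hc : g (f x₀) ≠ 0 := hx₀
  refine ⟨(g (f x₀))⁻¹ • (g.toLinearMap ∘ₗ f.restrictScalars k), fun a x => ?_, ⟨x₀, ?_⟩,
    fun mu hmu => ⟨mu x₀, fun x => ?_⟩⟩
  · simp only [LinearMap.smul_apply, LinearMap.comp_apply, LinearMap.restrictScalars_apply, map_smul,
      smul_eq_mul, AlgHom.toLinearMap_apply, map_mul]
    ring
  · simp [inv_mul_cancel₀ hc]
  · have h2 := congrArg mu (smul_swap f x₀ x)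
    rw [hmu, hmu] at h2
    simp only [LinearMap.smul_apply, LinearMap.comp_apply, LinearMap.restrictScalars_apply, smul_eq_mul,
      AlgHom.toLinearMap_apply]
    field_simp
    linear_combination h2

/-- A functional at a point. -/
def lam (g : A →ₐ[k] k) : I →ₗ[k] k := (exists_lam I g).choose

theorem lam_smul (g : A →ₐ[k] k) (a : A) (x : I) : lam g (a • x) = g a * lam g x :=
  (exists_lam I g).choose_spec.1 a x

theorem exists_lam_eq_one (g : A →ₐ[k] k) : ∃ x : I, lam g x = 1 := (exists_lam I g).choose_spec.2.1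

theorem exists_eq_smul_lam (g : A →ₐ[k] k) (mu : I →ₗ[k] k) (h : ∀ (a : A) (x : I), mu (a • x) = g a * mu x) :
    ∃ c : k, ∀ x, mu x = c * lam g x := (exists_lam I g).choose_spec.2.2 mu h

/-- The slice of a tensor at a point. -/
def L (g : A →ₐ[k] k) : I ⊗[k] I →ₗ[k] I :=
  (TensorProduct.lid k I).toLinearMap ∘ₗ TensorProduct.map (lam g) LinearMap.id

theorem L_sm (g : A →ₐ[k] k) (s : A ⊗[k] A) (z : I ⊗[k] I) : L g (sm k I s z) = slice g s • L g z := by
  induction s using TensorProduct.induction_on with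
  | zero => simp
  | tmul a b =>
    induction z using TensorProduct.induction_on with
    | zero => simp
    | tmul x y =>
      simp only [L, sm, TensorProduct.map₂_apply_tmul, TensorProduct.map_tmul, LinearMap.comp_apply,
        LinearEquiv.coe_coe, TensorProduct.lid_tmul, LinearMap.id_apply, slice_tmul]
      change lam g (a • x) • (b • y) = (g a • b) • lam g x • y
      rw [lam_smul, smul_assoc, smul_comm b, smul_smul]
    | add z w hz hw => simp only [map_add, smul_add, hz, hw]
  | add s t hs ht => simp only [map_add, LinearMap.add_apply, add_smul, hs, ht]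

/-- The operator of a point. -/
def T (d : Dat k I) (g : A →ₐ[k] k) : I →ₗ[k] I := L g ∘ₗ d.D

theorem T_smul (d : Dat k I) (g : A →ₐ[k] k) (a : A) (x : I) : T d g (a • x) = tr k g a • T d g x := by
  show L g (d.D (a • x)) = _
  rw [d.semi', L_sm]
  rfl

theorem T_surjective (d : Dat k I) (g : A →ₐ[k] k) : Function.Surjective (T d g) := by
  intro y
  obtain ⟨x, hx⟩ := exists_lam_eq_one (I := I) g
  have hy : L g (x ⊗ₜ y) = y := by simp [L, hx]
  rw [← hy]
  have hmem : x ⊗ₜ[k] y ∈ Submodule.span k (Set.range fun p : (A ⊗[k] A) × I => sm k I p.1 (d.D p.2)) :=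
    d.span_eq_top ▸ trivial
  have key : ∀ z ∈ Submodule.span k (Set.range fun p : (A ⊗[k] A) × I => sm k I p.1 (d.D p.2)),
      L g z ∈ LinearMap.range (T d g) := by
    intro z hz
    induction hz using Submodule.span_induction with
    | mem z hz =>
      obtain ⟨⟨s, v⟩, rfl⟩ := hz
      obtain ⟨a, ha⟩ := (tr_bijective k g).2 (slice g s)
      exact ⟨a • v, by rw [T_smul, L_sm, ha]; rfl⟩
    | zero => simp
    | add a b _ _ ha hb => rw [map_add]; exact add_mem ha hb
    | smul c a _ ha => rw [map_smul]; exact Submodule.smul_mem _ c ha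
  exact key _ hmem

theorem T_injective (d : Dat k I) (g : A →ₐ[k] k) : Function.Injective (T d g) := by
  rw [← LinearMap.ker_eq_bot, Submodule.eq_bot_iff]
  intro v hv
  rw [LinearMap.mem_ker] at hv
  by_contra hv0
  obtain ⟨y, hy⟩ := exists_ne_zero A I
  obtain ⟨w, rfl⟩ := T_surjective d g y
  apply hy
  have h1 := congrArg (T d g) (Subtype.ext (by simp [mul_comm]) : (v : A) • w = (w : A) • v)
  rw [T_smul, T_smul, hv, smul_zero] at h1
  have h2 : tr k g v ≠ 0 := fun e => hv0 (Subtype.ext ((tr_bijective k g).1 (by simpa using e)))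
  exact Subtype.ext ((mul_eq_zero.1 (congrArg Subtype.val h1)).resolve_left h2)

end Slices

/-- Change of the comultiplication by a unit in the second factor. -/
def Dat.twist (d : Dat k I) (u : Aˣ) : Dat k I where
  D := (sm k I (1 ⊗ₜ (u : A))) ∘ₗ d.D
  semi a x := by
    simp only [LinearMap.comp_apply, incl₂_sm, d.semi]
    ring
  gen z := by
    have hle : Ideal.span (Set.range fun x => incl₂ k I (d.D x)) ≤
        Ideal.span (Set.range fun x => incl₂ k I (((sm k I (1 ⊗ₜ (u : A))) ∘ₗ d.D) x)) := by
      refine Ideal.span_le.2 ?_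
      rintro _ ⟨x, rfl⟩
      have := Ideal.mul_mem_left (Ideal.span (Set.range fun x => incl₂ k I (((sm k I (1 ⊗ₜ (u : A))) ∘ₗ d.D) x)))
        ((1 : A) ⊗ₜ[k] ((u⁻¹ : Aˣ) : A)) (Ideal.subset_span ⟨x, rfl⟩)
      simpa [incl₂_sm, ← mul_assoc, Algebra.TensorProduct.tmul_mul_tmul, ← Algebra.TensorProduct.one_def] using this
    exact hle (d.gen z)

section Triple

variable (d : Dat k I)

/-- The left iterate. -/
def lft (v : I) : (I ⊗[k] I) ⊗[k] I := d.D.rTensor I (d.D v)

/-- The right iterate. -/
def rgt (v : I) : (I ⊗[k] I) ⊗[k] I := (TensorProduct.assoc k I I I).symm (d.D.lTensor I (d.D v))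

local notation "ΔL" => Algebra.TensorProduct.map Δ (AlgHom.id k A)
local notation "ΔR" => Algebra.TensorProduct.map (AlgHom.id k A) Δ
set_option quotPrecheck false in
local notation "assocA" => (Algebra.TensorProduct.assoc k k k A A A).symm

theorem incl₃_rTensor (s : A ⊗[k] A) (z : I ⊗[k] I) :
    incl₃ k I (d.D.rTensor I (sm k I s z)) = ΔL s * incl₃ k I (d.D.rTensor I z) := by
  induction s using TensorProduct.induction_on with
  | zero => simp
  | tmul a b =>
    induction z using TensorProduct.induction_on with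
    | zero => simp
    | tmul x y =>
      simp only [sm, TensorProduct.map₂_apply_tmul, TensorProduct.map_tmul, LinearMap.rTensor_tmul, incl₃,
        Algebra.TensorProduct.map_tmul, Algebra.TensorProduct.tmul_mul_tmul, AlgHom.id_apply]
      rw [show act k I a x = a • x from rfl, d.semi, incl_act]
    | add z w hz hw => simp only [map_add, mul_add, hz, hw]
  | add s t hs ht => simp only [map_add, LinearMap.add_apply, add_mul, hs, ht]

theorem incl₃_assoc_tmul (x : I) (z : I ⊗[k] I) :
    incl₃ k I ((TensorProduct.assoc k I I I).symm (x ⊗ₜ z)) = assocA (incl k I x ⊗ₜ incl₂ k I z) := by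
  induction z using TensorProduct.induction_on with
  | zero => simp
  | tmul y w => simp [incl₃, incl₂]
  | add z w hz hw => simp only [TensorProduct.tmul_add, map_add, hz, hw]

theorem incl₃_lTensor (s : A ⊗[k] A) (z : I ⊗[k] I) :
    incl₃ k I ((TensorProduct.assoc k I I I).symm (d.D.lTensor I (sm k I s z))) =
      assocA (ΔR s) * incl₃ k I ((TensorProduct.assoc k I I I).symm (d.D.lTensor I z)) := by
  induction s using TensorProduct.induction_on with
  | zero => simp
  | tmul a b =>
    induction z using TensorProduct.induction_on with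
    | zero => simp
    | tmul x y =>
      simp only [sm, TensorProduct.map₂_apply_tmul, TensorProduct.map_tmul, LinearMap.lTensor_tmul,
        incl₃_assoc_tmul, Algebra.TensorProduct.map_tmul, AlgHom.id_apply, ← map_mul,
        Algebra.TensorProduct.tmul_mul_tmul]
      rw [show act k I b y = b • y from rfl, d.semi, incl_act]
    | add z w hz hw => simp only [map_add, mul_add, hz, hw]
  | add s t hs ht => simp only [map_add, LinearMap.add_apply, add_mul, hs, ht]

theorem assocA_ΔR (a : A) : assocA (ΔR (Δ a)) = ΔL (Δ a) := by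
  have h1 : ∀ z : A ⊗[k] A, assocA (ΔR z) =
      (TensorProduct.assoc k A A A).symm ((Coalgebra.comul (R := k) (A := A)).lTensor A z) := fun z => by
    induction z using TensorProduct.induction_on with
    | zero => simp
    | tmul x y => rfl
    | add z w hz hw => simp only [map_add, hz, hw]
  have h2 : ∀ z : A ⊗[k] A, ΔL z = (Coalgebra.comul (R := k) (A := A)).rTensor A z := fun z => by
    induction z using TensorProduct.induction_on with
    | zero => simp
    | tmul x y => rfl
    | add z w hz hw => simp only [map_add, hz, hw]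
  rw [h1, h2]
  exact Coalgebra.coassoc_symm_apply a

theorem incl₃_lft_smul (a : A) (v : I) : incl₃ k I (lft d (a • v)) = ΔL (Δ a) * incl₃ k I (lft d v) := by
  rw [lft, d.semi', incl₃_rTensor]; rfl

theorem incl₃_rgt_smul (a : A) (v : I) : incl₃ k I (rgt d (a • v)) = ΔL (Δ a) * incl₃ k I (rgt d v) := by
  rw [rgt, d.semi', incl₃_lTensor, assocA_ΔR]; rfl

theorem incl₃_mem_span_lft (t : (I ⊗[k] I) ⊗[k] I) :
    incl₃ k I t ∈ Ideal.span (Set.range fun v => incl₃ k I (lft d v)) := by
  set Q := Ideal.span (Set.range fun v => incl₃ k I (lft d v))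
  have h1 : ∀ z : I ⊗[k] I, incl₃ k I (d.D.rTensor I z) ∈ Q := by
    intro z
    have hz : z ∈ Submodule.span k (Set.range fun p : (A ⊗[k] A) × I => sm k I p.1 (d.D p.2)) := by
      rw [d.span_eq_top]; trivial
    induction hz using Submodule.span_induction with
    | mem z hz =>
      obtain ⟨⟨s, v⟩, rfl⟩ := hz
      rw [incl₃_rTensor]
      exact Q.mul_mem_left _ (Ideal.subset_span ⟨v, rfl⟩)
    | zero => simp
    | add a b _ _ ha hb => simp only [map_add]; exact add_mem ha hb
    | smul c a _ ha => simp only [map_smul]; exact Q.smul_of_tower_mem c ha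
  induction t using TensorProduct.induction_on with
  | zero => simp
  | tmul z w =>
    have hz : z ∈ Submodule.span k (Set.range fun p : (A ⊗[k] A) × I => sm k I p.1 (d.D p.2)) := by
      rw [d.span_eq_top]; trivial
    induction hz using Submodule.span_induction with
    | mem z hz =>
      obtain ⟨⟨s, v⟩, rfl⟩ := hz
      have := Q.mul_mem_left (s ⊗ₜ[k] (1 : A)) (h1 (v ⊗ₜ w))
      simpa [incl₃, incl₂_sm, Algebra.TensorProduct.tmul_mul_tmul] using this
    | zero => simp
    | add a b _ _ ha hb => simp only [TensorProduct.add_tmul, map_add]; exact add_mem ha hb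
    | smul c a _ ha =>
      rw [← TensorProduct.smul_tmul', map_smul]
      exact Q.smul_of_tower_mem c ha
  | add z w hz hw => rw [map_add]; exact add_mem hz hw

theorem incl₃_mem_span_rgt (t : (I ⊗[k] I) ⊗[k] I) :
    incl₃ k I t ∈ Ideal.span (Set.range fun v => incl₃ k I (rgt d v)) := by
  set Q := Ideal.span (Set.range fun v => incl₃ k I (rgt d v))
  have h1 : ∀ z : I ⊗[k] I, incl₃ k I ((TensorProduct.assoc k I I I).symm (d.D.lTensor I z)) ∈ Q := by
    intro z
    have hz : z ∈ Submodule.span k (Set.range fun p : (A ⊗[k] A) × I => sm k I p.1 (d.D p.2)) := by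
      rw [d.span_eq_top]; trivial
    induction hz using Submodule.span_induction with
    | mem z hz =>
      obtain ⟨⟨s, v⟩, rfl⟩ := hz
      rw [incl₃_lTensor]
      exact Q.mul_mem_left _ (Ideal.subset_span ⟨v, rfl⟩)
    | zero => simp
    | add a b _ _ ha hb => simp only [map_add]; exact add_mem ha hb
    | smul c a _ ha => simp only [map_smul]; exact Q.smul_of_tower_mem c ha
  obtain ⟨t, rfl⟩ := (TensorProduct.assoc k I I I).symm.surjective t
  induction t using TensorProduct.induction_on with
  | zero => simp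
  | tmul x z =>
    have hz : z ∈ Submodule.span k (Set.range fun p : (A ⊗[k] A) × I => sm k I p.1 (d.D p.2)) := by
      rw [d.span_eq_top]; trivial
    induction hz using Submodule.span_induction with
    | mem z hz =>
      obtain ⟨⟨s, v⟩, rfl⟩ := hz
      have := Q.mul_mem_left (assocA ((1 : A) ⊗ₜ[k] s)) (h1 (x ⊗ₜ v))
      rw [LinearMap.lTensor_tmul, incl₃_assoc_tmul, ← map_mul, Algebra.TensorProduct.tmul_mul_tmul,
        _root_.one_mul, ← incl₂_sm, ← incl₃_assoc_tmul] at this
      exact this
    | zero => simp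
    | add a b _ _ ha hb => simp only [TensorProduct.tmul_add, map_add]; exact add_mem ha hb
    | smul c a _ ha =>
      rw [TensorProduct.tmul_smul, LinearEquiv.map_smul, map_smul]
      exact Q.smul_of_tower_mem c ha
  | add z w hz hw => rw [map_add, map_add]; exact add_mem hz hw

theorem invI_span_incl₃ [IsDomain ((A ⊗[k] A) ⊗[k] A)] (hI : InvI I) :
    InvI (Ideal.span (Set.range (incl₃ k I))) := by
  let j₁ : A →ₐ[k] (A ⊗[k] A) ⊗[k] A :=
    Algebra.TensorProduct.includeLeft.comp Algebra.TensorProduct.includeLeft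
  let j₂ : A →ₐ[k] (A ⊗[k] A) ⊗[k] A :=
    Algebra.TensorProduct.includeLeft.comp Algebra.TensorProduct.includeRight
  let j₃ : A →ₐ[k] (A ⊗[k] A) ⊗[k] A := Algebra.TensorProduct.includeRight
  have hinj : ∀ {φ : A →ₐ[k] (A ⊗[k] A) ⊗[k] A} (ψ : (A ⊗[k] A) ⊗[k] A →ₐ[k] A),
      (∀ a, ψ (φ a) = a) → Function.Injective φ := fun {φ} ψ h a b e => by rw [← h a, ← h b, e]
  let p : (A ⊗[k] A) ⊗[k] A →ₐ[k] A := (Algebra.TensorProduct.lmul' k).comp
    (Algebra.TensorProduct.map (Algebra.TensorProduct.lmul' k) (AlgHom.id k A))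
  have e : Ideal.span (Set.range (incl₃ k I)) =
      I.map j₁.toRingHom * I.map j₂.toRingHom * I.map j₃.toRingHom := by
    refine le_antisymm (Ideal.span_le.2 ?_) ?_
    · rintro _ ⟨t, rfl⟩
      induction t using TensorProduct.induction_on with
      | zero => simp
      | tmul z w =>
        induction z using TensorProduct.induction_on with
        | zero => simp
        | tmul x y =>
          have := Ideal.mul_mem_mul (Ideal.mul_mem_mul (Ideal.mem_map_of_mem j₁.toRingHom x.2)
            (Ideal.mem_map_of_mem j₂.toRingHom y.2)) (Ideal.mem_map_of_mem j₃.toRingHom w.2)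
          simpa [incl₃, incl₂, incl, j₁, j₂, j₃, Algebra.TensorProduct.tmul_mul_tmul] using this
        | add z z' hz hz' => rw [TensorProduct.add_tmul, map_add]; exact add_mem hz hz'
      | add z z' hz hz' => rw [map_add]; exact add_mem hz hz'
    · simp only [Ideal.map, Ideal.span_mul_span']
      refine Ideal.span_le.2 ?_
      rintro _ ⟨_, ⟨_, ⟨x, hx, rfl⟩, _, ⟨y, hy, rfl⟩, rfl⟩, _, ⟨w, hw, rfl⟩, rfl⟩
      refine Ideal.subset_span ⟨((⟨x, hx⟩ : I) ⊗ₜ ⟨y, hy⟩) ⊗ₜ ⟨w, hw⟩, ?_⟩
      simp [incl₃, incl₂, incl, j₁, j₂, j₃, Algebra.TensorProduct.tmul_mul_tmul]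
  rw [e]
  exact ((hI.map _ (hinj p fun a => by simp [p, j₁])).mul (hI.map _ (hinj p fun a => by simp [p, j₂]))).mul
    (hI.map _ (hinj p fun a => by simp [p, j₃]))

variable [Module.Invertible A I]

/-- The slice of a triple tensor at two points. -/
def L₃ (g h : A →ₐ[k] k) : (I ⊗[k] I) ⊗[k] I →ₗ[k] I :=
  (TensorProduct.lid k I).toLinearMap ∘ₗ
    TensorProduct.map (lam h ∘ₗ L g) LinearMap.id

theorem L₃_rgt (g h : A →ₐ[k] k) (v : I) : L₃ g h (rgt d v) = T d h (T d g v) := by
  show L₃ g h ((TensorProduct.assoc k I I I).symm (d.D.lTensor I (d.D v))) = T d h (L g (d.D v))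
  generalize d.D v = z
  induction z using TensorProduct.induction_on with
  | zero => simp
  | tmul x y =>
    rw [LinearMap.lTensor_tmul]
    have hL : T d h (L g (x ⊗ₜ y)) = lam g x • L h (d.D y) := by simp [T, L]
    rw [hL]
    generalize d.D y = w
    induction w using TensorProduct.induction_on with
    | zero => simp
    | tmul p q => simp [L₃, L, smul_smul]
    | add w w' hw hw' => simp only [map_add, TensorProduct.tmul_add, smul_add, hw, hw']
  | add z w hz hw => simp only [map_add, hz, hw]

theorem L₃_lft (g h : A →ₐ[k] k) : ∃ c : k, ∀ v, L₃ g h (lft d v) = c • T d (pmul k g h) v := by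
  obtain ⟨c, hc⟩ := exists_eq_smul_lam (pmul k g h) ((lam h ∘ₗ L g) ∘ₗ d.D) (fun a x => by
    show lam h (L g (d.D (a • x))) = _
    rw [d.semi', L_sm, lam_smul]
    rfl)
  refine ⟨c, fun v => ?_⟩
  show L₃ g h (d.D.rTensor I (d.D v)) = c • L (pmul k g h) (d.D v)
  generalize d.D v = z
  induction z using TensorProduct.induction_on with
  | zero => simp
  | tmul x y =>
    simp only [L₃, L, LinearMap.rTensor_tmul, LinearMap.comp_apply, TensorProduct.map_tmul, LinearEquiv.coe_coe,
      TensorProduct.lid_tmul, LinearMap.id_apply, smul_smul]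
    rw [← hc x]
    rfl
  | add z w hz hw => simp only [map_add, smul_add, hz, hw]

theorem L₃_sm₃ (g h : A →ₐ[k] k) (s : (A ⊗[k] A) ⊗[k] A) (z : (I ⊗[k] I) ⊗[k] I) :
    L₃ g h (sm₃ k I s z) = slice (pr g h) s • L₃ g h z := by
  induction s using TensorProduct.induction_on with
  | zero => simp
  | tmul a b =>
    induction z using TensorProduct.induction_on with
    | zero => simp
    | tmul x y =>
      simp only [L₃, sm₃, TensorProduct.map₂_apply_tmul, TensorProduct.map_tmul, LinearMap.comp_apply,
        LinearEquiv.coe_coe, TensorProduct.lid_tmul, LinearMap.id_apply, slice_tmul]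
      change lam h (L g (sm k I a x)) • (b • y) = ((h (slice g a)) • b) • lam h (L g x) • y
      rw [L_sm, lam_smul, smul_assoc, smul_comm b, smul_smul]
    | add z w hz hw => simp only [map_add, smul_add, hz, hw]
  | add s t hs ht => simp only [map_add, LinearMap.add_apply, add_smul, hs, ht]

/-- Composition of the operators of points, for a normalised comultiplication. -/
theorem exists_T_comp (hI : InvI I) (hone : ∀ v, T d eps v = v) (g h : A →ₐ[k] k) :
    ∃ c : k, ∀ v, T d h (T d g v) = c • T d (pmul k g h) v := by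
  haveI : IsDomain (A ⊗[k] A) := DiagIdeal.isDomain_tensor_domain A A
  haveI : Algebra.FiniteType k (A ⊗[k] A) :=
    Algebra.FiniteType.trans (S := A) inferInstance inferInstance
  haveI : IsDomain ((A ⊗[k] A) ⊗[k] A) := DiagIdeal.isDomain_tensor_domain (A ⊗[k] A) A
  have hcross : ∀ v w, incl₃ k I (lft d v) * incl₃ k I (rgt d w) =
      incl₃ k I (lft d w) * incl₃ k I (rgt d v) := by
    intro v w
    by_cases hv : (v : A) = 0
    · rw [show v = 0 from Subtype.ext hv]; simp [lft, rgt]
    have hne : ΔL (Δ (v : A)) ≠ 0 := by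
      intro e
      have h' := congrArg (slice (pr eps eps)) e
      have h'' : slice (pr eps eps) (ΔL (Δ (v : A))) = v := by
        have h2 : ∀ z : A ⊗[k] A, slice (pr eps eps) (ΔL z) = slice eps z := fun z => by
          induction z using TensorProduct.induction_on with
          | zero => simp
          | tmul x y =>
            rw [Algebra.TensorProduct.map_tmul, slice_tmul, slice_tmul, AlgHom.id_apply]
            congr 1
            exact congrArg eps (AlgHom.congr_fun (tr_counit k) x)
          | add z w hz hw => simp only [map_add, hz, hw]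
        rw [h2]
        exact AlgHom.congr_fun (tr_counit k) _
      rw [h'', map_zero] at h'
      exact hv h'
    have hswap : (w : A) • v = (v : A) • w := Subtype.ext (by simp [mul_comm])
    have e1 := incl₃_lft_smul d (w : A) v
    rw [hswap, incl₃_lft_smul] at e1
    have e2 := incl₃_rgt_smul d (w : A) v
    rw [hswap, incl₃_rgt_smul] at e2
    refine mul_left_cancel₀ hne ?_
    linear_combination (incl₃ k I (lft d v)) * e2 - (incl₃ k I (rgt d v)) * e1
  obtain ⟨u, hu⟩ := exists_unit_of_cross (fun v => incl₃ k I (lft d v)) (fun v => incl₃ k I (rgt d v)) hcross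
    (Q := Ideal.span (Set.range (incl₃ k I)))
    (le_antisymm (Ideal.span_mono (by rintro _ ⟨v, rfl⟩; exact ⟨_, rfl⟩))
      (Ideal.span_le.2 (by rintro _ ⟨t, rfl⟩; exact incl₃_mem_span_lft d t)))
    (le_antisymm (Ideal.span_mono (by rintro _ ⟨v, rfl⟩; exact ⟨_, rfl⟩))
      (Ideal.span_le.2 (by rintro _ ⟨t, rfl⟩; exact incl₃_mem_span_rgt d t)))
    (invI_span_incl₃ hI)
  have hu' : ∀ v, lft d v = sm₃ k I (u : (A ⊗[k] A) ⊗[k] A) (rgt d v) := fun v =>
    incl₃_injective ((hu v).trans (incl₃_sm _ _).symm)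
  obtain ⟨p, q, hpq⟩ := UnitTensor.exists_eq_tmul_of_mul_eq_one u.mul_inv
  -- both sides at two points
  have key : ∀ g h : A →ₐ[k] k, ∃ c : k, ∀ v, (pr g h p • q) • T d h (T d g v) = c • T d (pmul k g h) v := by
    intro g h
    obtain ⟨c, hc⟩ := L₃_lft d g h
    refine ⟨c, fun v => ?_⟩
    rw [← hc v, hu', L₃_sm₃, L₃_rgt, hpq, slice_tmul]
  have hpne : ∀ g h : A →ₐ[k] k, pr g h p ≠ 0 := fun g h e => by
    have hx : IsUnit (slice (pr g h) (u : (A ⊗[k] A) ⊗[k] A) : A) := u.isUnit.map _
    rw [hpq, slice_tmul, e, zero_smul] at hx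
    exact not_isUnit_zero hx
  obtain ⟨c₀, hc₀⟩ := key eps eps
  obtain ⟨v₀, hv₀⟩ := exists_ne_zero A I
  have hq : q = algebraMap k A ((pr eps eps p)⁻¹ * c₀) := by
    have h1 := hc₀ v₀
    rw [show pmul k eps eps = eps from AlgHom.ext fun a => congrArg eps (AlgHom.congr_fun (tr_counit k) a),
      hone, hone, ← IsScalarTower.algebraMap_smul A c₀ v₀] at h1
    have h2 : pr eps eps p • q = algebraMap k A c₀ :=
      mul_right_cancel₀ (fun e => hv₀ (Subtype.ext e)) (congrArg Subtype.val h1)
    rw [map_mul, ← h2, ← Algebra.smul_def, smul_smul, inv_mul_cancel₀ (hpne eps eps), one_smul]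
  have hq0 : (pr eps eps p)⁻¹ * c₀ ≠ 0 := fun e => by
    have hx : IsUnit (u : (A ⊗[k] A) ⊗[k] A) := u.isUnit
    rw [hpq, hq, e, map_zero, TensorProduct.tmul_zero] at hx
    exact not_isUnit_zero hx
  obtain ⟨c, hc⟩ := key g h
  refine ⟨(pr g h p * ((pr eps eps p)⁻¹ * c₀))⁻¹ * c, fun v => ?_⟩
  have h1 := hc v
  rw [hq, Algebra.smul_def, ← map_mul, IsScalarTower.algebraMap_smul] at h1
  rw [← smul_smul, ← h1, smul_smul, inv_mul_cancel₀ (mul_ne_zero (hpne g h) hq0), one_smul]

end Triple

theorem Dat.exists_normalised [Module.Invertible A I] (d : Dat k I) (hI : InvI I) :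
    ∃ d' : Dat k I, ∀ v, T d' eps v = v := by
  have hT : ∀ (a : A) (v : I), T d eps (a • v) = a • T d eps v := fun a v => by
    rw [T_smul, tr_counit, AlgHom.id_apply]
  obtain ⟨u, hu⟩ := exists_unit_of_cross (fun v => ((T d eps v : I) : A)) (fun v : I => (v : A))
    (fun v w => by
      have h1 := congrArg (T d eps) (Subtype.ext (by simp [mul_comm]) : (w : A) • v = (v : A) • w)
      rw [hT, hT] at h1
      have h2 := congrArg Subtype.val h1
      simp only [SetLike.val_smul, smul_eq_mul] at h2
      linear_combination h2)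
    (Q := I) (le_antisymm (Ideal.span_le.2 (by rintro _ ⟨v, rfl⟩; exact (T d eps v).2)) (fun x hx => by
      obtain ⟨w, hw⟩ := T_surjective d eps ⟨x, hx⟩
      exact Ideal.subset_span ⟨w, congrArg Subtype.val hw⟩))
    (le_antisymm (Ideal.span_le.2 (by rintro _ ⟨v, rfl⟩; exact v.2))
      (fun x hx => Ideal.subset_span ⟨⟨x, hx⟩, rfl⟩)) hI
  refine ⟨d.twist u⁻¹, fun v => ?_⟩
  show L eps (sm k I (1 ⊗ₜ ((u⁻¹ : Aˣ) : A)) (d.D v)) = v
  rw [L_sm, slice_tmul, map_one, one_smul]
  exact Subtype.ext (by
    show ((u⁻¹ : Aˣ) : A) * (T d eps v : I) = v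
    rw [hu v, Units.inv_mul_cancel_left])

/-- A primitive invertible ideal has a power which is principal. -/
theorem exists_pow_eq_span_singleton (hI : InvI I) {a b : A ⊗[k] A} (hb : b ≠ 0) (ha : a ≠ 0)
    (hab : Ideal.span {a} * I.map (Δ).toRingHom = Ideal.span {b} *
      (I.map (Algebra.TensorProduct.includeLeft : A →ₐ[k] A ⊗[k] A).toRingHom *
        I.map (Algebra.TensorProduct.includeRight : A →ₐ[k] A ⊗[k] A).toRingHom)) :
    ∃ (n : ℕ) (e : A), 0 < n ∧ e ≠ 0 ∧ I ^ n = Ideal.span {e} := by
  classical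
  haveI := hI.invertible
  haveI : IsDomain (A ⊗[k] A) := DiagIdeal.isDomain_tensor_domain A A
  set J := I.map (Algebra.TensorProduct.includeLeft : A →ₐ[k] A ⊗[k] A).toRingHom *
    I.map (Algebra.TensorProduct.includeRight : A →ₐ[k] A ⊗[k] A).toRingHom with hJdef
  have hJ : Ideal.span (Set.range (incl₂ k I)) = J := by
    refine le_antisymm (Ideal.span_le.2 ?_) ?_
    · rintro _ ⟨t, rfl⟩
      induction t using TensorProduct.induction_on with
      | zero => simp
      | tmul x y =>
        have := Ideal.mul_mem_mul (Ideal.mem_map_of_mem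
          (Algebra.TensorProduct.includeLeft : A →ₐ[k] A ⊗[k] A).toRingHom x.2)
          (Ideal.mem_map_of_mem (Algebra.TensorProduct.includeRight : A →ₐ[k] A ⊗[k] A).toRingHom y.2)
        simpa [hJdef, incl₂, incl, Algebra.TensorProduct.tmul_mul_tmul] using this
      | add z z' hz hz' => rw [map_add]; exact add_mem hz hz'
    · simp only [hJdef, Ideal.map, Ideal.span_mul_span']
      refine Ideal.span_le.2 ?_
      rintro _ ⟨_, ⟨x, hx, rfl⟩, _, ⟨y, hy, rfl⟩, rfl⟩
      refine Ideal.subset_span ⟨(⟨x, hx⟩ : I) ⊗ₜ ⟨y, hy⟩, ?_⟩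
      simp [incl₂, incl, Algebra.TensorProduct.tmul_mul_tmul]
  have hrange : ∀ y ∈ J, ∃ z, incl₂ k I z = y := by
    intro y hy
    rw [← hJ] at hy
    induction hy using Submodule.span_induction with
    | mem y hy => exact hy
    | zero => exact ⟨0, map_zero _⟩
    | add p q _ _ hp hq =>
      obtain ⟨p', rfl⟩ := hp
      obtain ⟨q', rfl⟩ := hq
      exact ⟨p' + q', map_add _ _ _⟩
    | smul c p _ hp =>
      obtain ⟨p', rfl⟩ := hp
      exact ⟨sm k I c p', incl₂_sm _ _⟩
  have hex : ∀ x : I, ∃ z, b * incl₂ k I z = a * Δ (x : A) := by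
    intro x
    have : a * Δ (x : A) ∈ Ideal.span {b} * J :=
      hab ▸ Ideal.mul_mem_mul (Ideal.mem_span_singleton_self a) (Ideal.mem_map_of_mem _ x.2)
    obtain ⟨y, hy, e⟩ := Ideal.mem_span_singleton_mul.1 this
    obtain ⟨z, rfl⟩ := hrange y hy
    exact ⟨z, e⟩
  choose D hD using hex
  let d₀ : Dat k I :=
  { D :=
      { toFun := D
        map_add' := fun x y => incl₂_injective (mul_left_cancel₀ hb (by
          rw [map_add, mul_add, hD, hD, hD, Submodule.coe_add, map_add, mul_add]))
        map_smul' := fun c x => incl₂_injective (mul_left_cancel₀ hb (by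
          rw [RingHom.id_apply, map_smul, Algebra.mul_smul_comm, hD, hD, SetLike.val_smul_of_tower, map_smul,
            Algebra.mul_smul_comm])) }
    semi := fun c x => mul_left_cancel₀ hb (by
      show b * incl₂ k I (D (c • x)) = b * (Δ c * incl₂ k I (D x))
      rw [hD, mul_left_comm b, hD, SetLike.val_smul, smul_eq_mul, map_mul]
      ring)
    gen := fun z => by
      show incl₂ k I z ∈ Ideal.span (Set.range fun x => incl₂ k I (D x))
      set Q := Ideal.span (Set.range fun x => incl₂ k I (D x))
      have h1 : Ideal.span {b} * J ≤ Ideal.span {b} * Q := by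
        rw [← hab, Ideal.span_singleton_mul_le_iff]
        intro y hy
        change y ∈ Submodule.span _ (_ '' _) at hy
        induction hy using Submodule.span_induction with
        | mem y hy =>
          obtain ⟨x, hx, rfl⟩ := hy
          exact Ideal.mem_span_singleton_mul.2 ⟨_, Ideal.subset_span ⟨⟨x, hx⟩, rfl⟩, hD ⟨x, hx⟩⟩
        | zero => simp
        | add p q _ _ hp hq => rw [mul_add]; exact add_mem hp hq
        | smul c p _ hp => rw [smul_eq_mul, mul_left_comm]; exact Ideal.mul_mem_left _ _ hp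
      exact (Ideal.span_singleton_mul_right_mono hb).1 h1 (hJ ▸ Ideal.subset_span ⟨z, rfl⟩) }
  obtain ⟨d, hd⟩ := d₀.exists_normalised hI
  -- a finite dimensional space stable under the operators
  obtain ⟨v₀, hv₀⟩ := exists_ne_zero A I
  let W : Submodule k I := Submodule.span k (Set.range fun g => T d g v₀)
  obtain ⟨S, hS⟩ := TensorProduct.exists_finset (d.D v₀)
  haveI : FiniteDimensional k W := by
    refine Submodule.finiteDimensional_of_le (S₂ := Submodule.span k (S.image Prod.snd : Set I)) ?_
    refine Submodule.span_le.2 ?_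
    rintro _ ⟨g, rfl⟩
    show L g (d.D v₀) ∈ _
    rw [hS, map_sum]
    refine Submodule.sum_mem _ fun i hi => ?_
    simp only [L, LinearMap.comp_apply, TensorProduct.map_tmul, LinearEquiv.coe_coe, TensorProduct.lid_tmul,
      LinearMap.id_apply]
    exact Submodule.smul_mem _ _ (Submodule.subset_span (Finset.mem_coe.2 (Finset.mem_image_of_mem _ hi)))
  have hW : ∀ g, ∀ w ∈ W, T d g w ∈ W := by
    intro g w hw
    induction hw using Submodule.span_induction with
    | mem w hw =>
      obtain ⟨h, rfl⟩ := hw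
      obtain ⟨c, hc⟩ := exists_T_comp d hI hd h g
      rw [hc]
      exact W.smul_mem c (Submodule.subset_span ⟨_, rfl⟩)
    | zero => simp
    | add p q _ _ hp hq => rw [map_add]; exact add_mem hp hq
    | smul c p _ hp => rw [map_smul]; exact W.smul_mem c hp
  have hWne : W ≠ ⊥ := fun e => hv₀ (by
    have h1 : T d eps v₀ ∈ W := Submodule.subset_span ⟨_, rfl⟩
    rw [e, Submodule.mem_bot, hd] at h1
    exact h1)
  let bW := Module.finBasis k W
  set n := Module.finrank k W
  have hn : 0 < n := Nat.pos_of_ne_zero fun e => hWne (Submodule.finrank_eq_zero.1 e)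
  obtain ⟨π, hπ⟩ := W.exists_isCompl
  let pW : I →ₗ[k] W := W.linearProjOfIsCompl π hπ
  -- the matrix of coefficients
  let coef : Fin n → (I ⊗[k] I →ₗ[k] I) := fun i =>
    (TensorProduct.rid k I).toLinearMap ∘ₗ (bW.coord i ∘ₗ pW).lTensor I
  let P : Matrix (Fin n) (Fin n) I := fun i j => coef i (d.D (bW j : I))
  have hP : ∀ g i j, lam g (P i j) = bW.coord i (pW (T d g (bW j : I))) := by
    intro g i j
    show lam g (coef i (d.D _)) = bW.coord i (pW (L g (d.D _)))
    generalize d.D (bW j : I) = z
    induction z using TensorProduct.induction_on with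
    | zero => simp
    | tmul x y => simp [coef, L, mul_comm]
    | add z w hz hw => simp only [map_add, hz, hw]
  have hdet : ∀ g : A →ₐ[k] k, (Matrix.of fun i j => lam g (P i j)).det ≠ 0 := by
    intro g
    let Tg : W →ₗ[k] W := (T d g).restrict (hW g)
    have hm : (Matrix.of fun i j => lam g (P i j)) = LinearMap.toMatrix bW bW Tg := by
      ext i j
      rw [Matrix.of_apply, hP, LinearMap.toMatrix_apply, Module.Basis.coord_apply]
      congr 2
      exact (congrArg pW rfl).trans (Submodule.linearProjOfIsCompl_apply_left hπ (Tg (bW j)))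
    rw [hm, LinearMap.det_toMatrix]
    intro e0
    have hbij : Function.Bijective Tg := by
      have hinj : Function.Injective Tg := fun x y e => Subtype.ext (T_injective d g (congrArg Subtype.val e))
      exact ⟨hinj, LinearMap.injective_iff_surjective.1 hinj⟩
    exact (LinearEquiv.ofBijective Tg hbij).isUnit_det'.ne_zero e0
  let e : A := (Matrix.of fun i j => (P i j : A)).det
  have heI : e ∈ I ^ n := by
    simp only [e, Matrix.det_apply]
    refine Ideal.sum_mem _ fun σ _ => ?_
    refine zsmul_mem ?_ _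
    have := Ideal.prod_mem_prod (s := (Finset.univ : Finset (Fin n))) (I := fun _ => I)
      (x := fun i => (Matrix.of fun i j => (P i j : A)) (σ i) i) (fun i _ => (P (σ i) i).2)
    simpa using this
  have hle : I ^ n ≤ Ideal.span {e} := by
    intro y hy
    by_contra hy'
    have hne : (Ideal.span {e}).colon ({y} : Set A) ≠ ⊤ := fun e' => hy' (by
      have h1 : (1 : A) ∈ (Ideal.span {e}).colon ({y} : Set A) := e' ▸ trivial
      simpa [Submodule.mem_colon_singleton] using h1)
    obtain ⟨m, hm, hle⟩ := Ideal.exists_le_maximal _ hne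
    haveI := hm
    letI := Ideal.Quotient.field m
    haveI : Algebra.FiniteType k (A ⧸ m) :=
      Algebra.FiniteType.of_surjective (f := Ideal.Quotient.mkₐ k m) Ideal.Quotient.mk_surjective
    haveI : Module.Finite k (A ⧸ m) := finite_of_finite_type_of_isJacobsonRing k _
    let g : A →ₐ[k] k := (AlgEquiv.ofBijective (Algebra.ofId k (A ⧸ m))
      (IsAlgClosed.algebraMap_bijective_of_isIntegral (k := k) (K := A ⧸ m))).symm.toAlgHom.comp
        (Ideal.Quotient.mkₐ k m)
    have hg : ∀ x, g x = 0 ↔ x ∈ m := fun x =>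
      by simp [g, Ideal.Quotient.eq_zero_iff_mem]
    obtain ⟨f, x₀, hx₀⟩ := exists_dual_notMem (M := I) hm.ne_top
    have hf : ∀ x : I, f x₀ * (x : A) = f x * (x₀ : A) := fun x => by
      simpa using congrArg Subtype.val (smul_swap f x₀ x)
    let F : Matrix (Fin n) (Fin n) A := Matrix.of fun i j => f (P i j)
    have hFe : f x₀ ^ n * e = F.det * (x₀ : A) ^ n := by
      have h1 : f x₀ • (Matrix.of fun i j => (P i j : A)) = (x₀ : A) • F := by
        ext i j
        simp only [Matrix.smul_apply, smul_eq_mul, Matrix.of_apply, F, hf (P i j)]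
        exact mul_comm _ _
      have h2 := congrArg Matrix.det h1
      rw [Matrix.det_smul, Matrix.det_smul, Fintype.card_fin] at h2
      rw [h2, mul_comm]
    have hpow : ∀ z ∈ I ^ n, f x₀ ^ n * z ∈ Ideal.span {(x₀ : A) ^ n} := by
      intro z hz
      have h1 : Ideal.span {f x₀ ^ n} * I ^ n ≤ Ideal.span {(x₀ : A) ^ n} := by
        rw [← Ideal.span_singleton_pow, ← mul_pow, ← Ideal.span_singleton_pow]
        refine Ideal.pow_right_mono ?_ n
        rw [Ideal.span_singleton_mul_le_iff]
        intro x hx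
        rw [hf ⟨x, hx⟩]
        exact Ideal.mul_mem_left _ _ (Ideal.mem_span_singleton_self _)
      exact h1 (Ideal.mul_mem_mul (Ideal.mem_span_singleton_self _) hz)
    obtain ⟨t, ht⟩ := Ideal.mem_span_singleton.1 (hpow y hy)
    have hs : f x₀ ^ n * F.det ∈ m := hle (by
      rw [Submodule.mem_colon_singleton, smul_eq_mul, Ideal.mem_span_singleton]
      refine ⟨f x₀ ^ n * t, ?_⟩
      linear_combination F.det * ht - t * hFe)
    rcases hm.isPrime.mem_or_mem hs with h | h
    · exact hx₀ (hm.isPrime.mem_of_pow_mem n h)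
    · have h1 : (Matrix.of fun i j => g (f (P i j))).det = 0 := by
        rw [← (hg _).2 h, AlgHom.map_det]
        rfl
      obtain ⟨c, hc⟩ := exists_eq_smul_lam g (g.toLinearMap ∘ₗ f.restrictScalars k) (fun r x => by simp)
      have hc0 : c ≠ 0 := fun e0 => hx₀ ((hg _).1 (by simpa [e0] using hc x₀))
      rw [show (Matrix.of fun i j => g (f (P i j))) = c • Matrix.of fun i j => lam g (P i j) from
        Matrix.ext fun i j => hc (P i j), Matrix.det_smul] at h1
      exact hdet g ((mul_eq_zero.1 h1).resolve_left (pow_ne_zero _ hc0))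
  refine ⟨n, e, hn, fun he => (hI.pow n).ne_bot (le_bot_iff.1 ?_),
    le_antisymm hle ((Ideal.span_singleton_le_iff_mem _).2 heI)⟩
  rw [he, Ideal.span_singleton_eq_bot.2 rfl] at hle
  exact hle

end Groth.Agent.PicFinite
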