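import Groth.Agent.Unirat.PicPower
import Groth.Agent.PicFinite.Torsion
import Groth.Agent.PicFinite.Fg
import Groth.Agent.AffPic.Basic
import Groth.Agent.MTBridge.Basic
import Groth.Agent.HomRep.FieldHom
import Groth.Agent.NormalNorm.Basic
import Groth.Agent.SmoothRed.Scheme

/-!
# The Picard group of a connected linear algebraic group is finite
-/

set_option autoImplicit false
set_option linter.style.haveILetI false
set_option linter.unusedSectionVars false
set_option backward.isDefEq.respectTransparency false
set_option maxHeartbeats 1000000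
set_option synthInstance.maxHeartbeats 400000

universe u

open CategoryTheory CategoryTheory.Limits MonoidalCategory CartesianMonoidalCategory AlgebraicGeometry TensorProduct
open Groth.Agent.MTBridge (spMap specGrp)
open Groth.Agent.W7Cube (pull pull_pull pullMul)
open scoped CategoryTheory.MonObj

noncomputable section

namespace Groth.Agent.PicFinite

open Groth.Agent.W7Cube in
attribute [local instance] law

variable {A : Type u} [CommRing A]

/-- The class on the spectrum of an element of the Picard group of a ring. -/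
def tau (M : CommRing.Pic A) : PicLoc.PicSet (Spec (CommRingCat.of A)) :=
  PicGrp.cls (AffPic.tl A M) (AffPic.isInvertible_tilde M)

theorem tau_injective : Function.Injective (tau (A := A)) := fun M N e =>
  CommRing.Pic.ext_iff.2 (AffPic.nonempty_tilde_iso_iff.1 ((PicGrp.cls_eq_cls_iff _ _).1 e))

theorem tau_surjective : Function.Surjective (tau (A := A)) := fun c => by
  obtain ⟨L, hL, rfl⟩ := PicGrp.exists_eq_cls c
  obtain ⟨M, ⟨e⟩⟩ := AffPic.exists_module L hL
  exact ⟨M, (PicGrp.cls_eq_cls_iff _ _).2 ⟨e.symm⟩⟩

theorem tau_mul (M N : CommRing.Pic A) : tau (M * N) = tau M * tau N := by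
  obtain ⟨e⟩ := TildeTensor.nonempty_iso (R := CommRingCat.of A) (ModuleCat.of A M) (ModuleCat.of A N)
  obtain ⟨e'⟩ := (AffPic.nonempty_tilde_iso_iff (M := (M * N : CommRing.Pic A)) (N := M ⊗[A] N)).2
    ((CommRing.Pic.mk_eq_iff.1 (CommRing.Pic.mul_eq_tensor M N).symm).map LinearEquiv.symm)
  exact Subtype.ext (Quot.sound ⟨e' ≪≫ e⟩)

theorem pull_tau {B : Type u} [CommRing B] (φ : A →+* B) (M : CommRing.Pic A) :
    pull (Spec.map (CommRingCat.ofHom φ)) (tau M) = tau (CommRing.Pic.mapRingHom φ M) := by
  rw [tau, W7Cube.pull_cls]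
  exact (PicGrp.cls_eq_cls_iff _ _).2 (AffPic.pullback_tilde φ M)

theorem subsingleton_pic_of_openImmersion {R : Type u} [CommRing R] [IsDomain R] [UniqueFactorizationMonoid R]
    (j : Spec (CommRingCat.of A) ⟶ Spec (CommRingCat.of R)) [IsOpenImmersion j] :
    Subsingleton (CommRing.Pic A) := by
  refine ⟨fun M N => tau_injective ?_⟩
  have h : ∀ M : CommRing.Pic A, tau M = PicLoc.unitPicSet _ := fun M =>
    (PicGrp.cls_eq_cls_iff _ (PicLoc.isInvertible_structureModule _)).2
      (DivDescMod.nonempty_trivial_of_openImmersion j (AffPic.isInvertible_tilde M))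
  rw [h, h]

variable {k : Type u} [Field k] [IsAlgClosed k]

/-- The translation action of a group on itself. -/
def selfAction (G : Over (Spec (CommRingCat.of k))) [GrpObj G] : AlgGrp.Action G G where
  act := MonObj.mul
  one_act := MonObj.one_mul G
  mul_act := MonObj.mul_assoc G

variable [HopfAlgebra k A]

set_option quotPrecheck false in
local notation "GA" => (Spec (CommRingCat.of A)).asOver (Spec (CommRingCat.of k))

/-- Classes on a connected linear group are primitive. -/
theorem mapRingHom_comul [Smooth (GA).hom] [ConnectedSpace (GA).left] (M : CommRing.Pic A) :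
    CommRing.Pic.mapRingHom (Bialgebra.comulAlgHom k A).toRingHom M =
      CommRing.Pic.mapRingHom (Algebra.TensorProduct.includeLeft : A →ₐ[k] A ⊗[k] A).toRingHom M *
        CommRing.Pic.mapRingHom (Algebra.TensorProduct.includeRight : A →ₐ[k] A ⊗[k] A).toRingHom M := by
  haveI : IsAffine (GA).left := inferInstanceAs (IsAffine (Spec (CommRingCat.of A)))
  haveI : IsAffineHom (GA).hom := isAffineHom_of_isAffine _
  haveI : IrreducibleSpace (GA).left := SemiCont.irreducibleSpace_of_smooth GA
  haveI : IsReduced (GA).left := SmoothRed.isReduced_of_smooth_scheme (GA).hom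
  haveI : IsIntegral (GA).left := isIntegral_of_irreducibleSpace_of_isReduced _
  letI L₁ : PicGrp.Law (Spec (CommRingCat.of A)) := W7Cube.law _
  letI : PicGrp.Law (GA).left := L₁
  letI := W7Cube.law (GA ⊗ GA).left
  let c : PicLoc.PicSet (GA).left := tau M
  obtain ⟨d, hd⟩ := Unirat.exists_eq_pull_fst (G := GA) (X := GA) Chev.isNormal (selfAction GA) c
  -- the other class is the same
  have hdc : d = c := by
    let s : GA ⟶ GA ⊗ GA := CartesianMonoidalCategory.lift (𝟙 _) (toUnit _ ≫ η[GA])
    have hs : s ≫ MonObj.mul = 𝟙 _ := by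
      show CartesianMonoidalCategory.lift _ _ ≫ μ = _
      rw [← Hom.mul_def, ← Hom.one_def, _root_.mul_one]
    have h1 := congrArg (pull s.left) hd
    rw [map_mul] at h1
    change pull s.left (pull (μ : GA ⊗ GA ⟶ GA).left c) =
      pull s.left (pull (fst GA GA).left d) * pull s.left (pull (snd GA GA).left c) at h1
    rw [pull_pull, pull_pull, pull_pull, ← Over.comp_left, ← Over.comp_left, ← Over.comp_left, hs,
      lift_fst, lift_snd, Over.comp_left, ← pull_pull] at h1
    have h2 : pull (η : 𝟙_ (Over (Spec (CommRingCat.of k))) ⟶ GA).left c = 1 := by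
      letI : PicGrp.Law (𝟙_ (Over (Spec (CommRingCat.of k)))).left := W7Cube.law _
      obtain ⟨L, hL, hLc⟩ := PicGrp.exists_eq_cls c
      rw [hLc, W7Cube.pull_cls, PicGrp.one_eq_unitPicSet]
      haveI : IsOpenImmersion (𝟙 (Spec (CommRingCat.of k))) := inferInstance
      exact (PicGrp.cls_eq_cls_iff _ (PicLoc.isInvertible_structureModule _)).2
        (DivDescMod.nonempty_trivial_of_openImmersion (𝟙 (Spec (CommRingCat.of k)))
          (PicLoc.isInvertible_pullback _ hL))
    rw [h2, map_one, _root_.mul_one, Over.id_left] at h1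
    simp only [PicProper.pull_id] at h1
    exact h1.symm
  subst hdc
  -- the points
  let iL : A →ₐ[k] A ⊗[k] A := Algebra.TensorProduct.includeLeft
  let iR : A →ₐ[k] A ⊗[k] A := Algebra.TensorProduct.includeRight
  let p : (Spec (CommRingCat.of (A ⊗[k] A))).asOver (Spec (CommRingCat.of k)) ⟶ GA ⊗ GA :=
    CartesianMonoidalCategory.lift (spMap iL) (spMap iR)
  have hp : p ≫ MonObj.mul = spMap (Bialgebra.comulAlgHom k A) := by
    show CartesianMonoidalCategory.lift _ _ ≫ μ = _
    rw [← Hom.mul_def, HomRep.spMap_mul]
    refine congrArg spMap (AlgHom.ext fun a => ?_)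
    rw [AlgHom.convMul_apply]
    show _ = Coalgebra.comul a
    simp only [WithConv.ofConv_toConv]
    generalize Coalgebra.comul (R := k) a = z
    induction z using TensorProduct.induction_on with
    | zero => simp
    | tmul x y => simp [iL, iR, Algebra.TensorProduct.tmul_mul_tmul]
    | add z w hz hw => simp only [map_add, hz, hw]
  have h1 := congrArg (pull p.left) hd
  rw [map_mul] at h1
  change pull p.left (pull (μ : GA ⊗ GA ⟶ GA).left c) =
    pull p.left (pull (fst GA GA).left c) * pull p.left (pull (snd GA GA).left c) at h1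
  rw [pull_pull, pull_pull, pull_pull, ← Over.comp_left, ← Over.comp_left, ← Over.comp_left, hp, lift_fst,
    lift_snd] at h1
  apply tau_injective
  rw [tau_mul, ← pull_tau, ← pull_tau, ← pull_tau]
  exact h1

/-- The Picard group of the coordinate ring of a connected linear group is finite. -/
theorem finite_pic [Smooth (GA).hom] [ConnectedSpace (GA).left] : Finite (CommRing.Pic A) := by
  let S := Spec (CommRingCat.of k)
  haveI : IsAffine (GA).left := inferInstanceAs (IsAffine (Spec (CommRingCat.of A)))
  haveI : IsAffineHom (GA).hom := isAffineHom_of_isAffine _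
  haveI : IrreducibleSpace (GA).left := SemiCont.irreducibleSpace_of_smooth GA
  haveI : IsReduced (GA).left := SmoothRed.isReduced_of_smooth_scheme (GA).hom
  haveI hint : IsIntegral (GA).left := isIntegral_of_irreducibleSpace_of_isReduced _
  haveI : IsDomain A := (affine_isIntegral_iff (CommRingCat.of A)).1 hint
  haveI : Algebra.FiniteType k A := RingHom.finiteType_algebraMap.1
    ((HasRingHomProperty.Spec_iff (P := @LocallyOfFiniteType)).mp
      (show LocallyOfFiniteType (Spec.map (CommRingCat.ofHom (algebraMap k A))) from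
        inferInstanceAs (LocallyOfFiniteType (GA).hom)))
  haveI : IsNoetherianRing A := Algebra.FiniteType.isNoetherianRing k A
  haveI : IsIntegrallyClosed A := by
    haveI : IsIntegral (Spec (CommRingCat.of A)) := hint
    haveI : Nonempty ((⊤ : (Spec (CommRingCat.of A)).Opens) : Scheme.{u}) :=
      ⟨⟨genericPoint (Spec (CommRingCat.of A)), trivial⟩⟩
    haveI := NormalNorm.isIntegrallyClosed_of_normal (Y := Spec (CommRingCat.of A))
      (show Pi1.IsNormalScheme (Spec (CommRingCat.of A)) from Chev.isNormal (X := GA))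
      (isAffineOpen_top (Spec (CommRingCat.of A)))
    exact IsIntegrallyClosed.of_equiv (Scheme.ΓSpecIso (CommRingCat.of A)).commRingCatIsoToRingEquiv
  -- a principal open which is an open of affine space
  obtain ⟨U, n, V, e, hUne, he⟩ := Unirat.exists_opens_iso (Unirat.ratl_group GA)
  obtain ⟨x, hx⟩ := hUne
  obtain ⟨_, ⟨_, ⟨f, rfl⟩, rfl⟩, hxf, hfU⟩ :=
    (PrimeSpectrum.isBasis_basic_opens (R := A)).exists_subset_of_mem_open (show x ∈ (U : Set _) from hx) U.2
  have hf : f ≠ 0 := by
    rintro rfl
    rw [PrimeSpectrum.basicOpen_zero] at hxf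
    exact hxf
  have hsub : Subsingleton (CommRing.Pic (Localization.Away f)) := by
    let i : Spec (CommRingCat.of (Localization.Away f)) ⟶ Spec (CommRingCat.of A) :=
      Spec.map (CommRingCat.ofHom (algebraMap A (Localization.Away f)))
    haveI : IsOpenImmersion i := IsOpenImmersion.of_isLocalization f
    have hr : Set.range i ⊆ Set.range U.ι := by
      rw [Scheme.Opens.range_ι]
      refine subset_trans (le_of_eq ?_) hfU
      exact PrimeSpectrum.localization_away_comap_range (Localization.Away f) f
    exact subsingleton_pic_of_openImmersion (IsOpenImmersion.lift U.ι i hr ≫ e.hom ≫ V.ι ≫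
      (AffineSpace.SpecIso (ULift.{u} (Fin n)) (CommRingCat.of k)).hom)
  haveI := fg_pic hf hsub
  refine CommGroup.finite_of_fg_isMulTorsion _ fun M => ?_
  obtain ⟨I, hI, rfl⟩ := exists_cls M
  haveI : IsDomain (A ⊗[k] A) := DiagIdeal.isDomain_tensor_domain A A
  have hiL : Function.Injective (Algebra.TensorProduct.includeLeft : A →ₐ[k] A ⊗[k] A) := fun a b h => by
    simpa using congrArg (Algebra.TensorProduct.lmul' k) h
  have hiR : Function.Injective (Algebra.TensorProduct.includeRight : A →ₐ[k] A ⊗[k] A) := fun a b h => by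
    simpa using congrArg (Algebra.TensorProduct.lmul' k) h
  have h := mapRingHom_comul (k := k) (cls I hI)
  rw [cls_map hI _ (comul_injective k), cls_map hI (Algebra.TensorProduct.includeLeft : A →ₐ[k] A ⊗[k] A).toRingHom hiL,
    cls_map hI (Algebra.TensorProduct.includeRight : A →ₐ[k] A ⊗[k] A).toRingHom hiR, ← cls_mul] at h
  obtain ⟨a, b, ha, hb, hab⟩ := exists_of_cls_eq _ _ h
  obtain ⟨n, d, hn, hd, hpow⟩ := exists_pow_eq_span_singleton hI hb ha hab
  exact isOfFinOrder_iff_pow_eq_one.2 ⟨n, hn, (cls_pow hI n).symm.trans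
    ((cls_congr _ (invI_span_singleton hd) hpow).trans (cls_span_singleton hd))⟩

end Groth.Agent.PicFinite
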